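import Cfsg.Agent.SchurRing.Basic

/-!
# The Schur ring of a primitive group with a regular dihedral subgroup

`G` acts on `DihedralGroup m` and contains the left translations.  An element of the group algebra
is a pair of elements of the algebra of `ZMod m` (rotation part and reflection part).  The elements
fixed by the stabiliser of `1` form a commutative algebra in which the rotation part determines
the element.
-/

set_option autoImplicit false

open MulAction DihedralGroup
open CfsgLib.SchurRing (IsTranslating IsInvariant exists_stab div_mem)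

namespace CfsgLib.DihedralB

variable {m : ℕ} [NeZero m]

section Parts

variable {R R' : Type*} [CommRing R] [CommRing R']

/-- The rotation part. -/
noncomputable def cpart :
    MonoidAlgebra R (DihedralGroup m) →ₗ[R] AddMonoidAlgebra R (ZMod m) where
  toFun U := AddMonoidAlgebra.ofCoeff (Finsupp.equivFunOnFinite.symm fun i => U.coeff (r i))
  map_add' U V := by ext; simp
  map_smul' a U := by ext; simp

/-- The reflection part. -/
noncomputable def bpart :
    MonoidAlgebra R (DihedralGroup m) →ₗ[R] AddMonoidAlgebra R (ZMod m) where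
  toFun U := AddMonoidAlgebra.ofCoeff (Finsupp.equivFunOnFinite.symm fun i => U.coeff (sr i))
  map_add' U V := by ext; simp
  map_smul' a U := by ext; simp

@[simp] theorem cpart_coeff (U : MonoidAlgebra R (DihedralGroup m)) (i : ZMod m) :
    (cpart U).coeff i = U.coeff (r i) := by simp [cpart]

@[simp] theorem bpart_coeff (U : MonoidAlgebra R (DihedralGroup m)) (i : ZMod m) :
    (bpart U).coeff i = U.coeff (sr i) := by simp [bpart]

theorem ext_parts {U V : MonoidAlgebra R (DihedralGroup m)} (hc : cpart U = cpart V)
    (hb : bpart U = bpart V) : U = V := by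
  ext (i | i)
  · simpa using congrArg (fun f : AddMonoidAlgebra R (ZMod m) => f.coeff i) hc
  · simpa using congrArg (fun f : AddMonoidAlgebra R (ZMod m) => f.coeff i) hb

/-- The automorphism of the algebra of `ZMod m` induced by negation. -/
noncomputable def tilde : AddMonoidAlgebra R (ZMod m) →+* AddMonoidAlgebra R (ZMod m) :=
  AddMonoidAlgebra.mapDomainRingHom R (-AddMonoidHom.id (ZMod m))

@[simp] theorem tilde_single (i : ZMod m) (a : R) :
    tilde (AddMonoidAlgebra.single i a) = AddMonoidAlgebra.single (-i) a := by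
  simp [tilde]

omit [NeZero m] in
@[simp] theorem tilde_coeff (f : AddMonoidAlgebra R (ZMod m)) (i : ZMod m) :
    (tilde f).coeff i = f.coeff (-i) := by
  conv_lhs => rw [← neg_neg i]
  exact Finsupp.mapDomain_apply neg_injective f.coeff (-i)

theorem cpart_single_r (i : ZMod m) (a : R) :
    cpart (MonoidAlgebra.single (r i) a) = AddMonoidAlgebra.single i a := by
  classical
  ext j
  simp [Finsupp.single_apply]

theorem cpart_single_sr (i : ZMod m) (a : R) :
    cpart (MonoidAlgebra.single (sr i) a) = 0 := by
  classical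
  ext j
  simp

theorem bpart_single_r (i : ZMod m) (a : R) :
    bpart (MonoidAlgebra.single (r i) a) = 0 := by
  classical
  ext j
  simp

theorem bpart_single_sr (i : ZMod m) (a : R) :
    bpart (MonoidAlgebra.single (sr i) a) = AddMonoidAlgebra.single i a := by
  classical
  ext j
  simp [Finsupp.single_apply]

theorem cpart_mul (U V : MonoidAlgebra R (DihedralGroup m)) :
    cpart (U * V) = cpart U * cpart V + tilde (bpart U) * bpart V := by
  induction U using MonoidAlgebra.induction_linear with
  | zero => simp
  | add x y hx hy => simp only [add_mul, map_add, hx, hy]; abel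
  | single h a =>
    induction V using MonoidAlgebra.induction_linear with
    | zero => simp
    | add x y hx hy => simp only [mul_add, map_add, hx, hy]; abel
    | single k b =>
      rw [MonoidAlgebra.single_mul_single]
      cases h <;> cases k <;>
        simp [cpart_single_r, cpart_single_sr, bpart_single_r, bpart_single_sr,
          AddMonoidAlgebra.single_mul_single, neg_add_eq_sub]

theorem bpart_mul (U V : MonoidAlgebra R (DihedralGroup m)) :
    bpart (U * V) = tilde (cpart U) * bpart V + bpart U * cpart V := by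
  induction U using MonoidAlgebra.induction_linear with
  | zero => simp
  | add x y hx hy => simp only [add_mul, map_add, hx, hy]; abel
  | single h a =>
    induction V using MonoidAlgebra.induction_linear with
    | zero => simp
    | add x y hx hy => simp only [mul_add, map_add, hx, hy]; abel
    | single k b =>
      rw [MonoidAlgebra.single_mul_single]
      cases h <;> cases k <;>
        simp [cpart_single_r, cpart_single_sr, bpart_single_r, bpart_single_sr,
          AddMonoidAlgebra.single_mul_single, neg_add_eq_sub]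

theorem cpart_one : cpart (1 : MonoidAlgebra R (DihedralGroup m)) = 1 := by
  rw [MonoidAlgebra.one_def, ← r_zero, cpart_single_r, AddMonoidAlgebra.one_def]

theorem bpart_one : bpart (1 : MonoidAlgebra R (DihedralGroup m)) = 0 := by
  rw [MonoidAlgebra.one_def, ← r_zero, bpart_single_r]

/-- The element with given parts. -/
noncomputable def ofParts (f g : AddMonoidAlgebra R (ZMod m)) :
    MonoidAlgebra R (DihedralGroup m) :=
  MonoidAlgebra.ofCoeff (Finsupp.equivFunOnFinite.symm fun h => match h with
    | r i => f.coeff i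
    | sr i => g.coeff i)

@[simp] theorem cpart_ofParts (f g : AddMonoidAlgebra R (ZMod m)) : cpart (ofParts f g) = f := by
  ext; simp [ofParts]

@[simp] theorem bpart_ofParts (f g : AddMonoidAlgebra R (ZMod m)) : bpart (ofParts f g) = g := by
  ext; simp [ofParts]

/-- The sign character: `1` on rotations, `-1` on reflections. -/
def sgn : DihedralGroup m →* R where
  toFun h := match h with
    | r _ => 1
    | sr _ => -1
  map_one' := by rw [DihedralGroup.one_def]
  map_mul' a b := by cases a <;> cases b <;> simp

omit [NeZero m] in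
@[simp] theorem sgn_r (i : ZMod m) : sgn (R := R) (r i) = 1 := rfl

omit [NeZero m] in
@[simp] theorem sgn_sr (i : ZMod m) : sgn (R := R) (sr i) = -1 := rfl

omit [NeZero m] in
theorem map_sgn (φ : R →+* R') (h : DihedralGroup m) : φ (sgn h) = sgn h := by
  cases h <;> simp

/-- The augmentation twisted by the sign character. -/
noncomputable def eps : MonoidAlgebra R (DihedralGroup m) →ₐ[R] R :=
  MonoidAlgebra.lift R R (DihedralGroup m) sgn

theorem eps_apply (U : MonoidAlgebra R (DihedralGroup m)) :
    eps U = ∑ h, U.coeff h * sgn h := by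
  rw [eps, MonoidAlgebra.lift_apply, Finsupp.sum_fintype _ _ (by simp)]
  simp only [smul_eq_mul]

theorem coeff_mul_eq (U V : MonoidAlgebra R (DihedralGroup m)) (z : DihedralGroup m) :
    (U * V).coeff z = ∑ x, U.coeff x * V.coeff (x⁻¹ * z) := by
  classical
  rw [MonoidAlgebra.coeff_mul_apply_left, Finsupp.sum_fintype]
  intro i
  simp

end Parts

/-- `G` is primitive on `DihedralGroup m`, contains the left translations, and `2 ≤ m`. -/
class DihAct (G : Type*) [Group G] (m : ℕ) [MulAction G (DihedralGroup m)] : Prop where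
  translating : IsTranslating G (DihedralGroup m)
  primitive : IsPreprimitive G (DihedralGroup m)
  two_le : 2 ≤ m

section Fixed

variable {G : Type*} [Group G] [MulAction G (DihedralGroup m)] [DihAct G m]

omit [NeZero m] [DihAct G m] in
theorem smul_eq_one_iff {g : G} (hg : g ∈ stabilizer G (1 : DihedralGroup m))
    {x : DihedralGroup m} : g • x = 1 ↔ x = 1 := by
  conv_lhs => rw [← mem_stabilizer_iff.1 hg, (MulAction.injective g).eq_iff]

omit [NeZero m] [DihAct G m] in
theorem invariant_smul_iff {X : Set (DihedralGroup m)} (hX : IsInvariant G X) {g : G}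
    (hg : g ∈ stabilizer G (1 : DihedralGroup m)) {x : DihedralGroup m} :
    g • x ∈ X ↔ x ∈ X :=
  ⟨fun h => by simpa using hX g⁻¹ ((stabilizer G (1 : DihedralGroup m)).inv_mem hg) _ h,
    fun h => hX g hg x h⟩

variable (G) in
theorem eq_bot_or_top (K : Subgroup (DihedralGroup m))
    (hK : IsInvariant G (K : Set (DihedralGroup m))) : K = ⊥ ∨ K = ⊤ :=
  have := DihAct.primitive (G := G) (m := m)
  SchurRing.eq_bot_or_top DihAct.translating K hK

/-- The rotations. -/
def rotations : Subgroup (DihedralGroup m) where
  carrier := Set.range r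
  one_mem' := ⟨0, rfl⟩
  mul_mem' := by rintro _ _ ⟨i, rfl⟩ ⟨j, rfl⟩; exact ⟨i + j, (r_mul_r i j).symm⟩
  inv_mem' := by rintro _ ⟨i, rfl⟩; exact ⟨-i, (DihedralGroup.inv_r i).symm⟩

theorem subset_one_of_subset_rotations {X : Set (DihedralGroup m)} (hX : IsInvariant G X)
    (h : X ⊆ Set.range r) : X ⊆ {1} := by
  rcases eq_bot_or_top G _ (SchurRing.isInvariant_closure DihAct.translating hX) with h1 | h1
  · intro x hx
    have := Subgroup.subset_closure (k := X) hx
    rwa [h1] at this
  · have h2 : sr 0 ∈ rotations (m := m) :=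
      (Subgroup.closure_le _).2 h (h1 ▸ Subgroup.mem_top _)
    obtain ⟨i, hi⟩ := h2
    cases hi

theorem exists_sr_mem {X : Set (DihedralGroup m)} (hX : IsInvariant G X) {x : DihedralGroup m}
    (hx : x ∈ X) (hx1 : x ≠ 1) : ∃ i, sr i ∈ X := by
  by_contra! h
  refine hx1 (subset_one_of_subset_rotations hX ?_ hx)
  rintro (i | i) hi
  · exact ⟨i, rfl⟩
  · exact absurd hi (h i)

omit [DihAct G m] in
theorem inv_mem_orbit (hτ : IsTranslating G (DihedralGroup m)) {x y : DihedralGroup m}
    (hy : y ∈ orbit (stabilizer G (1 : DihedralGroup m)) x) :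
    y⁻¹ ∈ orbit (stabilizer G (1 : DihedralGroup m)) x⁻¹ := by
  obtain ⟨⟨g, hg⟩, rfl⟩ := hy
  obtain ⟨g', hg', h⟩ := exists_stab hτ g x
  have := h 1
  rw [mem_stabilizer_iff.1 hg, mul_one, mul_one] at this
  exact ⟨⟨g', hg'⟩, this.symm⟩

/-- All basic sets are symmetric. -/
theorem exists_smul_eq_inv (x : DihedralGroup m) :
    ∃ g ∈ stabilizer G (1 : DihedralGroup m), g • x = x⁻¹ := by
  rcases eq_or_ne x 1 with rfl | hx
  · exact ⟨1, one_mem _, by simp⟩
  obtain ⟨i, hi⟩ := exists_sr_mem (SchurRing.isInvariant_orbit (G := G) x) (mem_orbit_self x) hx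
  have h2 := inv_mem_orbit DihAct.translating hi
  rw [DihedralGroup.inv_sr] at h2
  have h3 : x⁻¹ ∈ orbit (stabilizer G (1 : DihedralGroup m)) x := by
    rw [← orbit_eq_iff.2 hi, orbit_eq_iff.2 h2]
    exact mem_orbit_self _
  obtain ⟨g, hg⟩ := h3
  exact ⟨g, g.2, hg⟩

theorem eq_empty_of_subset_reflections {X : Set (DihedralGroup m)} (hX : IsInvariant G X)
    (h : X ⊆ Set.range sr) : X = ∅ := by
  by_contra hne
  obtain ⟨y, hy⟩ := Set.nonempty_iff_ne_empty.2 hne
  set X2 : Set (DihedralGroup m) := {z | ∃ a ∈ X, ∃ b ∈ X, a * b = z} with hX2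
  have hX2i : IsInvariant G X2 := by
    rintro g hg _ ⟨a, ha, b, hb, rfl⟩
    refine ⟨g • a, hX g hg a ha, (g • a)⁻¹ * g • (a * b), ?_, mul_inv_cancel_left _ _⟩
    exact div_mem DihAct.translating hX g (by rwa [inv_mul_cancel_left])
  have hsub : X2 ⊆ {1} := by
    refine subset_one_of_subset_rotations hX2i ?_
    rintro _ ⟨a, ha, b, hb, rfl⟩
    obtain ⟨i, rfl⟩ := h ha
    obtain ⟨j, rfl⟩ := h hb
    exact ⟨j - i, (sr_mul_sr i j).symm⟩
  obtain ⟨i, rfl⟩ := h hy
  have hXy : X = {sr i} := by
    refine Set.eq_singleton_iff_unique_mem.2 ⟨hy, fun b hb => ?_⟩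
    have h1 : sr i * b = 1 := hsub ⟨sr i, hy, b, hb, rfl⟩
    rwa [← eq_inv_iff_mul_eq_one, eq_comm, inv_eq_iff_eq_inv, DihedralGroup.inv_sr] at h1
  rcases eq_bot_or_top G _ (SchurRing.isInvariant_closure DihAct.translating hX) with h1 | h1
  · have := Subgroup.subset_closure (k := X) hy
    rw [h1] at this
    exact (show sr i ≠ (1 : DihedralGroup m) from fun h => by rw [DihedralGroup.one_def] at h; cases h) this
  · rw [hXy, ← Subgroup.zpowers_eq_closure] at h1
    have hc := congrArg (fun K : Subgroup (DihedralGroup m) => Nat.card K) h1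
    simp only [Nat.card_zpowers, orderOf_sr, Subgroup.card_top, DihedralGroup.nat_card] at hc
    have := DihAct.two_le (G := G) (m := m)
    omega

theorem exists_r_mem {X : Set (DihedralGroup m)} (hX : IsInvariant G X) (hne : X.Nonempty) :
    ∃ i, r i ∈ X := by
  by_contra! h
  refine hne.ne_empty (eq_empty_of_subset_reflections hX ?_)
  rintro (i | i) hi
  · exact absurd hi (h i)
  · exact ⟨i, rfl⟩

/-- An invariant set without `1` that is periodic is empty; with `1` it is everything. -/
theorem periodic_invariant {X : Set (DihedralGroup m)} (hX : IsInvariant G X) {q : ZMod m}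
    (hq : q ≠ 0) (h1 : ∀ i, r i ∈ X → r (i + q) ∈ X) (h2 : ∀ i, sr i ∈ X → sr (i - q) ∈ X) :
    X = ∅ ∨ X = Set.univ := by
  have hmem : r q ∈ SchurRing.rightStab X := by
    rintro (i | i) hi
    · rw [r_mul_r, add_comm]; exact h1 i hi
    · rw [r_mul_sr]; exact h2 i hi
  rcases eq_bot_or_top G _ (SchurRing.isInvariant_rightStab DihAct.translating hX) with h | h
  · rw [h, Subgroup.mem_bot, DihedralGroup.one_def] at hmem
    exact absurd (DihedralGroup.r.inj hmem) hq
  · rcases X.eq_empty_or_nonempty with h0 | ⟨x, hx⟩
    · exact Or.inl h0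
    · refine Or.inr (Set.eq_univ_of_forall fun y => ?_)
      have := (h ▸ Subgroup.mem_top (y * x⁻¹) : y * x⁻¹ ∈ SchurRing.rightStab X) x hx
      rwa [inv_mul_cancel_right] at this

/-- Elements fixed by the stabiliser of `1`. -/
def IsFixed (G : Type*) {m : ℕ} {R : Type*} [Group G] [MulAction G (DihedralGroup m)] [Semiring R]
    (U : MonoidAlgebra R (DihedralGroup m)) : Prop :=
  ∀ g ∈ stabilizer G (1 : DihedralGroup m), ∀ h, U.coeff (g • h) = U.coeff h

variable {R R' : Type*} [CommRing R] [CommRing R']

theorem isFixed_mul {U V : MonoidAlgebra R (DihedralGroup m)} (hU : IsFixed G U)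
    (hV : IsFixed G V) : IsFixed G (U * V) := by
  intro g hg y
  rw [coeff_mul_eq, coeff_mul_eq]
  refine (Fintype.sum_equiv (MulAction.toPerm g) _ _ fun x => ?_).symm
  simp only [MulAction.toPerm_apply]
  obtain ⟨g', hg', hy⟩ := exists_stab (DihAct.translating (G := G)) g x
  rw [hy, hU g hg, hV g' hg']

variable (G m R) in
/-- The Schur ring. -/
def fixedAlg : Subalgebra R (MonoidAlgebra R (DihedralGroup m)) where
  carrier := {U | IsFixed G U}
  mul_mem' := isFixed_mul
  add_mem' := by
    intro U V hU hV g hg h
    simp only [MonoidAlgebra.coeff_add, Finsupp.add_apply, hU g hg h, hV g hg h]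
  algebraMap_mem' a := by
    classical
    intro g hg h
    rw [MonoidAlgebra.coe_algebraMap]
    simp only [Function.comp_apply, MonoidAlgebra.coeff_single, Finsupp.single_apply, eq_comm (a := (1 : DihedralGroup m)),
      smul_eq_one_iff hg]

theorem ext_coe {U V : fixedAlg m G R}
    (h : ∀ x, (U : MonoidAlgebra R (DihedralGroup m)).coeff x =
      (V : MonoidAlgebra R (DihedralGroup m)).coeff x) : U = V :=
  Subtype.ext (MonoidAlgebra.coeff_injective (Finsupp.ext h))

/-- Coefficient of an element of the Schur ring. -/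
noncomputable def co (U : fixedAlg m G R) (h : DihedralGroup m) : R :=
  (U : MonoidAlgebra R (DihedralGroup m)).coeff h

theorem co_smul_stab (U : fixedAlg m G R) {g : G} (hg : g ∈ stabilizer G (1 : DihedralGroup m))
    (h : DihedralGroup m) : co U (g • h) = co U h :=
  U.2 g hg h

/-- A coefficient as a linear map. -/
noncomputable def coHom (h : DihedralGroup m) : fixedAlg m G R →ₗ[R] R where
  toFun U := co U h
  map_add' U V := by simp [co]
  map_smul' a U := by simp [co]

theorem co_nsmul (n : ℕ) (U : fixedAlg m G R) (h : DihedralGroup m) :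
    co (n • U) h = n • co U h :=
  map_nsmul (coHom h) n U

theorem co_zsmul (n : ℤ) (U : fixedAlg m G R) (h : DihedralGroup m) :
    co (n • U) h = n • co U h :=
  map_zsmul (coHom h) n U

theorem co_smul (a : R) (U : fixedAlg m G R) (h : DihedralGroup m) :
    co (a • U) h = a * co U h :=
  map_smul (coHom h) a U

theorem co_sub (U V : fixedAlg m G R) (h : DihedralGroup m) :
    co (U - V) h = co U h - co V h :=
  map_sub (coHom h) U V

theorem co_add (U V : fixedAlg m G R) (h : DihedralGroup m) :
    co (U + V) h = co U h + co V h :=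
  map_add (coHom h) U V

theorem co_ext {U V : fixedAlg m G R} (h : ∀ x, co U x = co V x) : U = V := ext_coe h

theorem co_inv (U : fixedAlg m G R) (h : DihedralGroup m) : co U h⁻¹ = co U h := by
  obtain ⟨g, hg, hgh⟩ := exists_smul_eq_inv (G := G) h
  rw [← hgh, co_smul_stab U hg]

theorem isInvariant_level (U : fixedAlg m G R) (p : R → Prop) :
    IsInvariant G {h | p (co U h)} := fun g hg h hh => by
  rw [Set.mem_setOf_eq, co_smul_stab U hg]; exact hh

theorem isInvariant_level' (U : fixedAlg m G R) (p : R → Prop) :
    IsInvariant G {h | h ≠ 1 ∧ p (co U h)} := fun g hg h hh =>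
  ⟨fun e => hh.1 ((smul_eq_one_iff hg).1 e), isInvariant_level U p g hg h hh.2⟩

/-- The rotation part of an element of the Schur ring. -/
noncomputable def cS : fixedAlg m G R →ₗ[R] AddMonoidAlgebra R (ZMod m) :=
  cpart.comp (fixedAlg m G R).val.toLinearMap

/-- The reflection part of an element of the Schur ring. -/
noncomputable def bS : fixedAlg m G R →ₗ[R] AddMonoidAlgebra R (ZMod m) :=
  bpart.comp (fixedAlg m G R).val.toLinearMap

theorem cS_coeff (U : fixedAlg m G R) (i : ZMod m) : (cS U).coeff i = co U (r i) := cpart_coeff _ i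

theorem bS_coeff (U : fixedAlg m G R) (i : ZMod m) : (bS U).coeff i = co U (sr i) := bpart_coeff _ i

theorem cS_def (U : fixedAlg m G R) : cS U = cpart (U : MonoidAlgebra R (DihedralGroup m)) := rfl

theorem bS_def (U : fixedAlg m G R) : bS U = bpart (U : MonoidAlgebra R (DihedralGroup m)) := rfl

theorem tilde_cS (U : fixedAlg m G R) : tilde (cS U) = cS U := by
  ext i
  rw [tilde_coeff, cS_coeff, cS_coeff, ← DihedralGroup.inv_r, co_inv]

theorem cS_mul (U V : fixedAlg m G R) : cS (U * V) = cS U * cS V + tilde (bS U) * bS V :=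
  cpart_mul _ _

theorem bS_mul (U V : fixedAlg m G R) : bS (U * V) = cS U * bS V + bS U * cS V := by
  rw [bS_def, Subalgebra.coe_mul, bpart_mul, ← cS_def, tilde_cS]
  rfl

theorem fixedAlg_mul_comm (U V : fixedAlg m G R) : U * V = V * U := by
  refine Subtype.ext (ext_parts ?_ ?_)
  · rw [← cS_def, ← cS_def, ← tilde_cS, cS_mul, cS_mul, map_add, map_mul, map_mul, tilde_cS,
      tilde_cS]
    congr 1
    · exact mul_comm _ _
    · have hinv : ∀ f : AddMonoidAlgebra R (ZMod m), tilde (tilde f) = f := fun f => by ext; simp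
      rw [hinv, mul_comm]
  · rw [← bS_def, ← bS_def, bS_mul, bS_mul]
    ring

noncomputable instance instCommRing : CommRing (fixedAlg m G R) where
  mul_comm := fixedAlg_mul_comm

theorem cS_one : cS (1 : fixedAlg m G R) = 1 := cpart_one

theorem bS_one : bS (1 : fixedAlg m G R) = 0 := bpart_one

/-- The rotation part determines an element of the Schur ring. -/
theorem eq_zero_of_cS_eq_zero {U : fixedAlg m G R} (h : cS U = 0) : U = 0 := by
  have h1 : ({x | co U x ≠ 0} : Set (DihedralGroup m)) = ∅ := by
    refine eq_empty_of_subset_reflections (isInvariant_level U fun a => a ≠ 0) ?_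
    rintro (i | i) hi
    · refine absurd ?_ hi
      rw [← cS_coeff, h]
      simp
    · exact ⟨i, rfl⟩
  refine co_ext fun x => ?_
  have := Set.eq_empty_iff_forall_notMem.1 h1 x
  simpa [co] using this

theorem cS_injective : Function.Injective (cS (G := G) (m := m) (R := R)) := fun U V h =>
  sub_eq_zero.1 (eq_zero_of_cS_eq_zero (by rw [map_sub, h, sub_self]))

/-- Element of the Schur ring with given coefficients. -/
noncomputable def ofFun (F : DihedralGroup m → R)
    (hF : ∀ g ∈ stabilizer G (1 : DihedralGroup m), ∀ h, F (g • h) = F h) : fixedAlg m G R :=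
  ⟨MonoidAlgebra.ofCoeff (Finsupp.equivFunOnFinite.symm F), fun g hg h => by simpa using hF g hg h⟩

@[simp] theorem co_ofFun (F : DihedralGroup m → R)
    (hF : ∀ g ∈ stabilizer G (1 : DihedralGroup m), ∀ h, F (g • h) = F h) (h : DihedralGroup m) :
    co (ofFun F hF) h = F h := by
  simp [co, ofFun]

open Classical in
/-- The indicator of an invariant set. -/
noncomputable def ind (R : Type*) [CommRing R] {X : Set (DihedralGroup m)}
    (hX : IsInvariant G X) : fixedAlg m G R :=
  ofFun (fun h => if h ∈ X then 1 else 0) fun g hg h => by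
    simp only [invariant_smul_iff hX hg]

open Classical in
theorem co_ind {X : Set (DihedralGroup m)} (hX : IsInvariant G X) (h : DihedralGroup m) :
    co (ind R hX) h = if h ∈ X then 1 else 0 := co_ofFun _ _ h

/-- Change of coefficients. -/
noncomputable def fmap (φ : R →+* R') : fixedAlg m G R →+* fixedAlg m G R' :=
  ((MonoidAlgebra.mapRingHom (DihedralGroup m) φ).comp (fixedAlg m G R).val.toRingHom).codRestrict
    (fixedAlg m G R') fun U g hg h => by
      simp [U.2 g hg h]

@[simp] theorem co_fmap (φ : R →+* R') (U : fixedAlg m G R) (h : DihedralGroup m) :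
    co (fmap φ U) h = φ (co U h) := by
  simp [co, fmap]

theorem cS_fmap (φ : R →+* R') (U : fixedAlg m G R) :
    cS (fmap φ U) = AddMonoidAlgebra.mapRingHom (ZMod m) φ (cS U) := by
  ext i
  simp [cS_coeff]

theorem fmap_ind (φ : R →+* R') {X : Set (DihedralGroup m)} (hX : IsInvariant G X) :
    fmap φ (ind R hX) = ind R' hX := by
  classical
  refine co_ext fun h => ?_
  rw [co_fmap, co_ind, co_ind]
  split_ifs <;> simp

/-- `(U * V)(1) = ∑ U V`. -/
theorem co_mul_one (U V : fixedAlg m G R) : co (U * V) 1 = ∑ h, co U h * co V h := by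
  rw [co, Subalgebra.coe_mul, coeff_mul_eq]
  refine Finset.sum_congr rfl fun h _ => ?_
  rw [mul_one, ← co, ← co, co_inv]

theorem co_one (h : DihedralGroup m) [Decidable (h = 1)] :
    co (1 : fixedAlg m G R) h = if h = 1 then 1 else 0 := by
  classical
  rw [co, Subalgebra.coe_one, MonoidAlgebra.one_def, MonoidAlgebra.coeff_single,
    Finsupp.single_apply]
  simp [eq_comm]

/-- The twisted augmentation on the Schur ring. -/
noncomputable def epsS : fixedAlg m G R →ₐ[R] R := eps.comp (fixedAlg m G R).val

theorem epsS_apply (U : fixedAlg m G R) : epsS U = ∑ h, co U h * sgn h := eps_apply _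

theorem epsS_fmap (φ : R →+* R') (U : fixedAlg m G R) : epsS (fmap φ U) = φ (epsS U) := by
  simp [epsS_apply, map_sgn]

end Fixed

end CfsgLib.DihedralB
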