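import Cfsg.Agent.DihedralB.Basic

/-!
# Frobenius-invariant elements of the Schur ring are closed under multiplication

For an odd prime `p` let `piP p` be the endomorphism of the algebra of `ZMod m` induced by
`x ↦ p • x`.  Modulo `p ^ N` the elements of the Schur ring whose rotation part is fixed by
`piP p` are exactly the combinations of idempotents, so their products are fixed as well.
-/

set_option autoImplicit false

open MulAction DihedralGroup
open CfsgLib.SchurRing (IsTranslating IsInvariant)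

namespace CfsgLib.DihedralB

variable {m : ℕ} [NeZero m]

section Rot

variable {R R' : Type*} [CommRing R] [CommRing R']

/-- The endomorphism induced by `x ↦ p • x`. -/
noncomputable def piP (p : ℕ) : AddMonoidAlgebra R (ZMod m) →+* AddMonoidAlgebra R (ZMod m) :=
  AddMonoidAlgebra.mapDomainRingHom R (nsmulAddMonoidHom p)

omit [NeZero m] in
@[simp] theorem piP_single (p : ℕ) (i : ZMod m) (a : R) :
    piP p (AddMonoidAlgebra.single i a) = AddMonoidAlgebra.single (p • i) a := by
  simp [piP]

theorem piP_coeff (p : ℕ) (f : AddMonoidAlgebra R (ZMod m)) (z : ZMod m) :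
    (piP p f).coeff z = ∑ x ∈ Finset.univ.filter (fun x => p • x = z), f.coeff x := by
  classical
  induction f using AddMonoidAlgebra.induction_linear with
  | zero => simp
  | add x y hx hy => simp [hx, hy, Finset.sum_add_distrib]
  | single i a => simp [Finsupp.single_apply, Finset.sum_ite_eq]

omit [NeZero m] in
theorem mapRing_piP (φ : R →+* R') (p : ℕ) (f : AddMonoidAlgebra R (ZMod m)) :
    AddMonoidAlgebra.mapRingHom (ZMod m) φ (piP p f) =
      piP p (AddMonoidAlgebra.mapRingHom (ZMod m) φ f) := by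
  induction f using AddMonoidAlgebra.induction_linear with
  | zero => simp
  | add x y hx hy => simp [hx, hy]
  | single i a => simp

theorem nsmul_injective_of_not_dvd {p : ℕ} (hp : p.Prime) (hpm : ¬ p ∣ m) :
    Function.Injective fun x : ZMod m => p • x := by
  refine (nsmulCoprime (Nat.Coprime.symm ?_)).injective
  rw [Nat.card_zmod]
  exact hp.coprime_iff_not_dvd.2 hpm

theorem piP_injective {p : ℕ} (hp : p.Prime) (hpm : ¬ p ∣ m) :
    Function.Injective (piP (R := R) (m := m) p) :=
  AddMonoidAlgebra.mapDomain_injective (nsmul_injective_of_not_dvd hp hpm)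

omit [NeZero m] in
theorem not_dvd_addOrderOf {p : ℕ} (hpm : ¬ p ∣ m) (x : ZMod m) : ¬ p ∣ addOrderOf x :=
  fun h => hpm (h.trans (addOrderOf_dvd_of_nsmul_eq_zero (by simp)))

omit [NeZero m] in
theorem eq_of_nsmul_eq {p : ℕ} (hp : p.Prime) {x y : ZMod m} (h : p • x = p • y)
    (hx : ¬ p ∣ addOrderOf x) (hy : ¬ p ∣ addOrderOf y) : x = y := by
  have h0 : p • (x - y) = 0 := by rw [smul_sub, h, sub_self]
  have h1 : (addOrderOf x * addOrderOf y) • (x - y) = 0 := by
    rw [smul_sub, addOrderOf_dvd_iff_nsmul_eq_zero.1 (dvd_mul_right _ _),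
      addOrderOf_dvd_iff_nsmul_eq_zero.1 (dvd_mul_left _ _), sub_zero]
  have h2 := Nat.dvd_gcd (addOrderOf_dvd_of_nsmul_eq_zero h0) (addOrderOf_dvd_of_nsmul_eq_zero h1)
  rwa [Nat.coprime_iff_gcd_eq_one.1 (Nat.Coprime.mul_right (hp.coprime_iff_not_dvd.2 hx)
    (hp.coprime_iff_not_dvd.2 hy)), Nat.dvd_one, AddMonoid.addOrderOf_eq_one_iff, sub_eq_zero] at h2

/-- A fixed element of `piP p` lives on the elements of order prime to `p`. -/
theorem supp_of_piP_eq {p : ℕ} (hp : p.Prime) {f : AddMonoidAlgebra R (ZMod m)}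
    (hf : piP p f = f) {x : ZMod m} (hx : f.coeff x ≠ 0) : ¬ p ∣ addOrderOf x := by
  obtain ⟨v, m', hm', hmv⟩ := Nat.exists_eq_pow_mul_and_not_dvd (NeZero.ne m) p hp.ne_one
  have hk : ∀ k (x : ZMod m), f.coeff x ≠ 0 → ∃ y, p ^ k • y = x := by
    intro k
    induction k with
    | zero => exact fun x _ => ⟨x, by simp⟩
    | succ k ih =>
      intro x hx
      rw [← hf, piP_coeff] at hx
      obtain ⟨y, hy, hy'⟩ := Finset.exists_ne_zero_of_sum_ne_zero hx
      obtain ⟨z, rfl⟩ := ih y hy'
      exact ⟨z, by rw [pow_succ, mul_comm, mul_smul]; exact (Finset.mem_filter.1 hy).2⟩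
  obtain ⟨y, rfl⟩ := hk v x hx
  intro hd
  refine hm' (hd.trans (addOrderOf_dvd_of_nsmul_eq_zero ?_))
  rw [← mul_smul, mul_comm, ← hmv]
  simp

theorem inv_of_piP_eq {p : ℕ} (hp : p.Prime) {f : AddMonoidAlgebra R (ZMod m)}
    (hf : piP p f = f) {x : ZMod m} (hx : ¬ p ∣ addOrderOf x) :
    f.coeff (p • x) = f.coeff x := by
  conv_lhs => rw [← hf, piP_coeff]
  refine Finset.sum_eq_single x (fun y hy hyx => ?_) (fun h => absurd (by simp) h)
  by_contra hne
  exact hyx (eq_of_nsmul_eq hp (Finset.mem_filter.1 hy).2 (supp_of_piP_eq hp hf hne) hx)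

theorem piP_eq_of {p : ℕ} (hp : p.Prime) {f : AddMonoidAlgebra R (ZMod m)}
    (hs : ∀ x, p ∣ addOrderOf x → f.coeff x = 0)
    (hi : ∀ x : ZMod m, ¬ p ∣ addOrderOf x → f.coeff (p • x) = f.coeff x) : piP p f = f := by
  ext z
  rw [piP_coeff]
  have hdvd : ∀ x : ZMod m, addOrderOf (p • x) ∣ addOrderOf x := fun x =>
    addOrderOf_dvd_of_nsmul_eq_zero (by rw [smul_comm, addOrderOf_nsmul_eq_zero, smul_zero])
  by_cases hz : p ∣ addOrderOf z
  · rw [hs z hz]
    refine Finset.sum_eq_zero fun x hx => hs x (hz.trans ?_)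
    rw [← (Finset.mem_filter.1 hx).2]
    exact hdvd x
  · obtain ⟨y, hy⟩ : ∃ y, p * y ≡ 1 [MOD addOrderOf z] :=
      ⟨p ^ ((addOrderOf z).totient - 1), by
        rw [← pow_succ', Nat.sub_add_cancel (Nat.totient_pos.2 (addOrderOf_pos z))]
        exact Nat.ModEq.pow_totient (hp.coprime_iff_not_dvd.2 hz)⟩
    have hyz : p • (y • z) = z := by
      rw [← mul_smul]
      conv_rhs => rw [← one_smul ℕ z]
      exact nsmul_eq_nsmul_iff_modEq.2 hy
    have hy' : ¬ p ∣ addOrderOf (y • z) := fun h => hz (h.trans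
      (addOrderOf_dvd_of_nsmul_eq_zero (by rw [smul_comm, addOrderOf_nsmul_eq_zero, smul_zero])))
    conv_rhs => rw [← hyz, hi _ hy']
    refine Finset.sum_eq_single (y • z) (fun x hx hne => ?_) (fun h => absurd hyz (by simpa using h))
    refine hs x (by_contra fun hxp => hne ?_)
    exact eq_of_nsmul_eq hp ((Finset.mem_filter.1 hx).2.trans hyz.symm) hxp hy'

/-- A function invariant under multiplication by the odd primes not dividing `m` depends only on
the order of the element. -/
theorem eq_of_addOrderOf_eq {α : Type*} {f : ZMod m → α}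
    (hf : ∀ q : ℕ, q.Prime → q ≠ 2 → ¬ q ∣ m → ∀ x, f (q • x) = f x) {x y : ZMod m}
    (h : addOrderOf x = addOrderOf y) : f x = f y := by
  classical
  have hmem : y ∈ AddSubgroup.zmultiples x := by
    by_contra hno
    let g : Option (AddSubgroup.zmultiples x) → {t : ZMod m // addOrderOf x • t = 0} := fun o =>
      o.elim ⟨y, by rw [h, addOrderOf_nsmul_eq_zero]⟩ fun t => ⟨t.1, by
        obtain ⟨k, hk⟩ := t.2
        simp only at hk
        rw [← hk, smul_comm, addOrderOf_nsmul_eq_zero, smul_zero]⟩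
    have hg : Function.Injective g := by
      rintro (_ | a) (_ | b) hab
      · rfl
      · exact absurd (by rw [show y = b.1 from congrArg Subtype.val hab]; exact b.2) hno
      · exact absurd (by rw [show y = a.1 from (congrArg Subtype.val hab).symm]; exact a.2) hno
      · exact congrArg some (Subtype.ext (congrArg Subtype.val hab :))
    have h1 := Nat.card_le_card_of_injective g hg
    rw [Finite.card_option, Nat.card_zmultiples, Nat.card_eq_fintype_card (α := {t : ZMod m // _}),
      Fintype.card_subtype] at h1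
    have h2 := IsAddCyclic.card_nsmul_eq_zero_le (α := ZMod m) (addOrderOf_pos x)
    omega
  rw [← mem_multiples_iff_mem_zmultiples] at hmem
  obtain ⟨i, rfl⟩ := hmem
  simp only at h ⊢
  have hi : i.Coprime (addOrderOf x) := by
    by_contra hg
    have hd : addOrderOf (i • x) ∣ addOrderOf x / Nat.gcd (addOrderOf x) i := by
      rw [(isOfFinAddOrder_of_finite x).addOrderOf_nsmul]
    rw [← h] at hd
    have hg1 : 1 < Nat.gcd (addOrderOf x) i := by
      have : 0 < Nat.gcd (addOrderOf x) i := Nat.gcd_pos_of_pos_left _ (addOrderOf_pos x)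
      rw [Nat.Coprime, Nat.gcd_comm] at hg
      omega
    have := Nat.le_of_dvd (Nat.div_pos (Nat.gcd_le_left _ (addOrderOf_pos x)) (by omega)) hd
    have := Nat.div_lt_self (addOrderOf_pos x) hg1
    omega
  have hdm : addOrderOf x ∣ 2 * m := (addOrderOf_dvd_of_nsmul_eq_zero (by simp)).trans (dvd_mul_left m 2)
  have : NeZero (2 * m) := ⟨mul_ne_zero two_ne_zero (NeZero.ne m)⟩
  obtain ⟨μ, hμ⟩ := ZMod.unitsMap_surjective hdm (ZMod.unitOfCoprime i hi)
  set j := (μ : ZMod (2 * m)).val with hj
  have hjc : j.Coprime (2 * m) := ZMod.val_coe_unit_coprime μ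
  have hji : j ≡ i [MOD addOrderOf x] := by
    rw [← ZMod.natCast_eq_natCast_iff]
    have h' := congrArg (fun t : (ZMod (addOrderOf x))ˣ => (t : ZMod (addOrderOf x))) hμ
    simp only [ZMod.unitsMap_val, ZMod.coe_unitOfCoprime] at h'
    rw [← h', hj]
    exact ZMod.natCast_val _
  rw [← nsmul_eq_nsmul_iff_modEq.2 hji]
  have key : ∀ k : ℕ, k.Coprime (2 * m) → ∀ x, f (k • x) = f x := by
    intro k
    induction k using Nat.recOnMul with
    | zero =>
      intro hk
      exfalso
      rw [Nat.coprime_zero_left] at hk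
      omega
    | one => simp
    | prime q hq =>
      intro hk
      rw [hq.coprime_iff_not_dvd] at hk
      exact hf q hq (fun h2 => hk (h2 ▸ dvd_mul_right 2 m)) fun h2 => hk (dvd_mul_of_dvd_right h2 2)
    | mul a b iha ihb =>
      intro hk x
      rw [Nat.coprime_mul_iff_left] at hk
      rw [mul_smul, iha hk.1, ihb hk.2]
  exact (key j hjc x).symm

end Rot

section CharP

variable {p : ℕ} [hpf : Fact p.Prime]

omit [NeZero m] in
theorem pow_prime_rot (f : AddMonoidAlgebra (ZMod p) (ZMod m)) : f ^ p = piP p f := by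
  have : CharP (AddMonoidAlgebra (ZMod p) (ZMod m)) p :=
    charP_of_injective_ringHom (f := AddMonoidAlgebra.singleZeroRingHom)
      AddMonoidAlgebra.single_right_injective p
  induction f using AddMonoidAlgebra.induction_linear with
  | zero => rw [zero_pow hpf.out.ne_zero, map_zero]
  | add x y hx hy => rw [add_pow_char, hx, hy, map_add]
  | single i a => rw [AddMonoidAlgebra.single_pow, ZMod.pow_card, piP_single]

variable {G : Type*} [Group G] [MulAction G (DihedralGroup m)] [DihAct G m]

theorem cS_pow_prime (hodd : p ≠ 2) (U : fixedAlg m G (ZMod p)) :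
    cS (U ^ p) = piP p (cS U) := by
  set f := cS U with hf
  set g := bS U with hg
  set F : MonoidAlgebra (ZMod p) (DihedralGroup m) := ofParts f 0 with hF
  set G' : MonoidAlgebra (ZMod p) (DihedralGroup m) := ofParts 0 g with hG'
  have hU : (U : MonoidAlgebra (ZMod p) (DihedralGroup m)) = F + G' := by
    refine ext_parts ?_ ?_ <;> simp [hF, hG', hf, hg, cS_def, bS_def]
  have hcomm : Commute F G' := by
    refine ext_parts ?_ ?_
    · simp [cpart_mul, hF, hG']
    · simp only [bpart_mul, hF, hG', cpart_ofParts, bpart_ofParts, map_zero, zero_mul, mul_zero,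
        zero_add, add_zero, hf, tilde_cS, mul_comm]
  have hFn : ∀ n, cpart (F ^ n) = f ^ n ∧ bpart (F ^ n) = 0 := by
    intro n
    induction n with
    | zero => simp [cpart_one, bpart_one]
    | succ n ih =>
      rw [pow_succ, cpart_mul, bpart_mul, ih.1, ih.2]
      simp [hF, pow_succ]
  have hGn : ∀ k, cpart (G' ^ (2 * k + 1)) = 0 := by
    intro k
    induction k with
    | zero => simp [hG']
    | succ k ih =>
      rw [show 2 * (k + 1) + 1 = 2 * k + 1 + 2 by ring, pow_add, cpart_mul, ih]
      simp [sq, bpart_mul, hG']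
  obtain ⟨k, hk⟩ := hpf.out.odd_of_ne_two hodd
  have : CharP (MonoidAlgebra (ZMod p) (DihedralGroup m)) p :=
    charP_of_injective_ringHom (f := MonoidAlgebra.singleOneRingHom)
      MonoidAlgebra.single_right_injective p
  rw [cS_def, SubmonoidClass.coe_pow, hU, add_pow_char_of_commute p hcomm, map_add, (hFn p).1,
    pow_prime_rot]
  conv_rhs => rw [← add_zero (piP p f)]
  congr 1
  exact (congrArg (fun n => cpart (G' ^ n)) hk).trans (hGn k)

theorem pow_prime_eq_self_of_good (hodd : p ≠ 2) {U : fixedAlg m G (ZMod p)}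
    (hU : piP p (cS U) = cS U) : U ^ p = U :=
  cS_injective (by rw [cS_pow_prime hodd, hU])

end CharP

section Lift

variable (p : ℕ) [hpf : Fact p.Prime] (N : ℕ)

instance : NeZero (p ^ (N + 1)) := ⟨pow_ne_zero _ hpf.out.ne_zero⟩

/-- Reduction modulo `p`. -/
noncomputable def red : ZMod (p ^ (N + 1)) →+* ZMod p :=
  ZMod.castHom (dvd_pow_self p (Nat.succ_ne_zero N)) (ZMod p)

theorem red_natCast_val (a : ZMod p) : red p N ((a.val : ℕ) : ZMod (p ^ (N + 1))) = a := by
  rw [map_natCast, ZMod.natCast_zmod_val]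

theorem eq_mul_of_red_eq_zero {a : ZMod (p ^ (N + 1))} (ha : red p N a = 0) :
    a = (p : ZMod (p ^ (N + 1))) * ((a.val / p : ℕ) : ZMod (p ^ (N + 1))) := by
  have hd : p ∣ a.val := by
    rw [← ZMod.natCast_eq_zero_iff, ← map_natCast (red p N), ZMod.natCast_zmod_val, ha]
  rw [← Nat.cast_mul, Nat.mul_div_cancel' hd, ZMod.natCast_zmod_val]

theorem red_eq_zero_of_mul_pow {a : ZMod (p ^ (N + 1))} {k : ℕ} (hk : k ≤ N)
    (ha : p ^ k • a = 0) : red p N a = 0 := by
  rw [← ZMod.natCast_zmod_val a, map_natCast, ZMod.natCast_eq_zero_iff]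
  rw [nsmul_eq_mul, ← ZMod.natCast_zmod_val a, ← Nat.cast_mul, ZMod.natCast_eq_zero_iff] at ha
  have h := (pow_dvd_pow p (show k + 1 ≤ N + 1 by omega)).trans ha
  rw [pow_succ] at h
  exact Nat.dvd_of_mul_dvd_mul_left (pow_pos hpf.out.pos k) h

variable {G : Type*} [Group G] [MulAction G (DihedralGroup m)] [DihAct G m]

theorem exists_eq_nsmul {U : fixedAlg m G (ZMod (p ^ (N + 1)))} (hU : fmap (red p N) U = 0) :
    ∃ U' : fixedAlg m G (ZMod (p ^ (N + 1))), U = p • U' := by
  refine ⟨ofFun (fun h => (((co U h).val / p : ℕ) : ZMod (p ^ (N + 1))))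
    (fun g hg h => by simp only [co_smul_stab U hg]), co_ext fun h => ?_⟩
  have h1 : red p N (co U h) = 0 := by
    rw [← co_fmap, hU]
    rfl
  conv_lhs => rw [eq_mul_of_red_eq_zero p N h1]
  rw [co_nsmul, co_ofFun, nsmul_eq_mul]

theorem exists_preimage (U : fixedAlg m G (ZMod p)) :
    ∃ U' : fixedAlg m G (ZMod (p ^ (N + 1))), fmap (red p N) U' = U := by
  refine ⟨ofFun (fun h => (((co U h).val : ℕ) : ZMod (p ^ (N + 1))))
    (fun g hg h => by simp only [co_smul_stab U hg]), co_ext fun h => ?_⟩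
  rw [co_fmap, co_ofFun, red_natCast_val]

theorem eq_zero_of_idem {d : AddMonoidAlgebra (ZMod (p ^ (N + 1))) (ZMod m)}
    (hd : d * (d * d) = d) (hred : AddMonoidAlgebra.mapRingHom (ZMod m) (red p N) d = 0) :
    d = 0 := by
  obtain ⟨d', rfl⟩ : ∃ d', d = p • d' := by
    refine ⟨AddMonoidAlgebra.ofCoeff (Finsupp.equivFunOnFinite.symm fun i =>
      (((d.coeff i).val / p : ℕ) : ZMod (p ^ (N + 1)))), ?_⟩
    ext i
    have h1 : red p N (d.coeff i) = 0 := by
      simpa using congrArg (fun f : AddMonoidAlgebra (ZMod p) (ZMod m) => f.coeff i) hred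
    conv_lhs => rw [eq_mul_of_red_eq_zero p N h1]
    rw [AddMonoidAlgebra.coeff_smul, Finsupp.smul_apply, nsmul_eq_mul]
    simp
  have hnil : IsNilpotent (p • d') := ⟨N + 1, by
    rw [smul_pow, ← Nat.cast_smul_eq_nsmul (ZMod (p ^ (N + 1))), ZMod.natCast_self, zero_smul]⟩
  refine (((Commute.all (p • d') (p • d')).isNilpotent_mul_right hnil).isUnit_one_sub.mul_left_eq_zero).1 ?_
  rw [mul_sub, mul_one, hd, sub_self]

theorem piP_eq_of_idem_rot {e : AddMonoidAlgebra (ZMod (p ^ (N + 1))) (ZMod m)}
    (he : e * e = e) : piP p e = e := by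
  set e' := piP p e with he'
  have he2 : e' * e' = e' := by rw [he', ← map_mul, he]
  refine (sub_eq_zero.1 (eq_zero_of_idem p N (d := e - e') ?_ ?_)).symm
  · linear_combination (e + 1 - 3 * e') * he + (-e' - 1 + 3 * e) * he2
  · rw [map_sub, he', mapRing_piP, ← pow_prime_rot, IsIdempotentElem.pow_eq ?_ hpf.out.ne_zero,
      sub_self]
    exact (congrArg (AddMonoidAlgebra.mapRingHom (ZMod m) (red p N)) he).symm.trans (map_mul _ _ _) |>.symm

theorem good_of_idem (hodd : p ≠ 2) {U : fixedAlg m G (ZMod (p ^ (N + 1)))} (hU : U * U = U) :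
    piP p (cS U) = cS U := by
  have h1 := cS_mul U U
  have h2 := bS_mul U U
  rw [hU] at h1 h2
  set f := cS U with hf
  set g := bS U with hg
  have hk : (f - f * f) * (2 * f - 1) = 0 := by
    linear_combination (2 * f - 1) * h1 - tilde g * h2
  set d := f * (2 * f - 1) with hd
  set e := 4 * (f - f * f) with he
  have hdd : d * d = d := by rw [hd]; linear_combination (-(2 * f + 1)) * hk
  have hee : e * e = e := by rw [he]; linear_combination (-4 * (2 * f - 1)) * hk
  have h2u : IsUnit (2 : AddMonoidAlgebra (ZMod (p ^ (N + 1))) (ZMod m)) := by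
    have h : IsUnit ((2 : ℕ) : ZMod (p ^ (N + 1))) :=
      (ZMod.isUnit_iff_coprime 2 _).2 (Nat.Coprime.pow_right _
        ((Nat.coprime_primes Nat.prime_two hpf.out).2 hodd.symm))
    have h' := h.map (AddMonoidAlgebra.singleZeroRingHom (M := ZMod m))
    rw [map_natCast] at h'
    simpa only [Nat.cast_ofNat] using h'
  have hsum : 2 * f = 2 * d + e := by rw [hd, he]; ring
  refine h2u.mul_left_cancel ?_
  rw [hsum, ← piP_eq_of_idem_rot p N hdd, ← piP_eq_of_idem_rot p N hee]
  rw [← map_ofNat (piP (R := ZMod (p ^ (N + 1))) (m := m) p) 2, ← map_mul, ← map_mul, ← map_add,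
    hsum]

open Polynomial in
theorem eq_sum_interp (x : fixedAlg m G (ZMod p)) :
    x = ∑ i : ZMod p, i • (1 - (x - algebraMap (ZMod p) _ i) ^ (p - 1)) := by
  have hpoly : (∑ i : ZMod p, C i * (1 - (X - C i) ^ (p - 1))) - X = (0 : (ZMod p)[X]) := by
    refine Polynomial.eq_zero_of_natDegree_lt_card_of_eval_eq_zero _ (ι := ZMod p) (f := id)
      Function.injective_id (fun i => ?_) ?_
    · simp only [id_eq, eval_sub, eval_finsetSum, eval_mul, eval_C, eval_one, eval_pow, eval_X]
      rw [Finset.sum_eq_single i, sub_self i, zero_pow (Nat.sub_ne_zero_of_lt hpf.out.one_lt)]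
      · ring
      · intro j _ hj
        rw [ZMod.pow_card_sub_one_eq_one (sub_ne_zero.2 (Ne.symm hj)), sub_self, mul_zero]
      · simp
    · rw [ZMod.card]
      refine lt_of_le_of_lt (b := p - 1) ?_ (Nat.sub_lt hpf.out.pos Nat.one_pos)
      refine (natDegree_sub_le _ _).trans (max_le ?_ ?_)
      · refine natDegree_sum_le_of_forall_le _ _ fun i _ => ?_
        refine natDegree_C_mul_le _ _ |>.trans ?_
        refine (natDegree_sub_le _ _).trans (max_le (by simp) ?_)
        exact natDegree_pow_le.trans (by simp)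
      · have := hpf.out.two_le
        simp
        omega
  have := congrArg (Polynomial.aeval x) hpoly
  simp only [map_sub, map_sum, map_mul, map_one, map_pow, Polynomial.aeval_C, Polynomial.aeval_X,
    map_zero, sub_eq_zero] at this
  conv_lhs => rw [← this]
  exact Finset.sum_congr rfl fun i _ => (Algebra.smul_def _ _).symm

theorem good_of_mem_closure (hodd : p ≠ 2) {U : fixedAlg m G (ZMod (p ^ (N + 1)))}
    (hU : U ∈ Subring.closure {e : fixedAlg m G (ZMod (p ^ (N + 1))) | IsIdempotentElem e}) :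
    piP p (cS U) = cS U := by
  rw [Subring.mem_closure_iff] at hU
  induction hU using AddSubgroup.closure_induction with
  | mem x hx =>
    refine good_of_idem p N hodd ?_
    induction hx using Submonoid.closure_induction with
    | mem y hy => exact hy
    | one => exact one_mul _
    | mul a b _ _ ha hb => exact IsIdempotentElem.mul ha hb
  | zero => simp
  | add x y _ _ hx hy => simp [hx, hy]
  | neg x _ hx => simp [hx]

theorem mem_closure_of_good (hodd : p ≠ 2) {U : fixedAlg m G (ZMod (p ^ (N + 1)))}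
    (hU : piP p (cS U) = cS U) :
    U ∈ Subring.closure {e : fixedAlg m G (ZMod (p ^ (N + 1))) | IsIdempotentElem e} := by
  set T := Subring.closure {e : fixedAlg m G (ZMod (p ^ (N + 1))) | IsIdempotentElem e} with hT
  suffices key : ∀ k ≤ N + 1, ∃ I ∈ T, ∃ U' : fixedAlg m G (ZMod (p ^ (N + 1))),
      U = I + p ^ k • U' by
    obtain ⟨I, hI, U', rfl⟩ := key (N + 1) le_rfl
    rw [← Nat.cast_smul_eq_nsmul (ZMod (p ^ (N + 1))), ZMod.natCast_self, zero_smul, add_zero]
    exact hI
  intro k hk
  induction k with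
  | zero => exact ⟨0, T.zero_mem, U, by simp⟩
  | succ k ih =>
    obtain ⟨I, hI, U', hdec⟩ := ih (by omega)
    have hgood : piP p (cS (fmap (red p N) U')) = cS (fmap (red p N) U') := by
      have h0 : p ^ k • (piP p (cS U') - cS U') = 0 := by
        have h1 := good_of_mem_closure p N hodd hI
        rw [hdec, map_add, map_add, map_nsmul, map_nsmul, h1, add_right_inj] at hU
        rw [smul_sub, hU, sub_self]
      rw [cS_fmap, ← mapRing_piP, ← sub_eq_zero, ← map_sub]
      ext i
      have h2 := congrArg (fun f : AddMonoidAlgebra _ (ZMod m) => f.coeff i) h0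
      simp only [AddMonoidAlgebra.coeff_smul, Finsupp.smul_apply, AddMonoidAlgebra.coeff_zero,
        Finsupp.coe_zero, Pi.zero_apply] at h2
      rw [AddMonoidAlgebra.coeff_mapRingHom, red_eq_zero_of_mul_pow p N (by omega) h2]
      rfl
    have hpow := pow_prime_eq_self_of_good hodd hgood
    set x := fmap (red p N) U' with hx
    have hidem : ∀ i : ZMod p, IsIdempotentElem (1 - (x - algebraMap (ZMod p) _ i) ^ (p - 1)) := by
      intro i
      have : CharP (fixedAlg m G (ZMod p)) p :=
        charP_of_injective_ringHom (f := algebraMap (ZMod p) (fixedAlg m G (ZMod p)))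
          (RingHom.injective _) p
      have hp' : (x - algebraMap (ZMod p) _ i) ^ p = x - algebraMap (ZMod p) _ i := by
        rw [sub_pow_char, hpow, ← map_pow, ZMod.pow_card]
      refine IsIdempotentElem.one_sub ?_
      have h2 := hpf.out.two_le
      rw [IsIdempotentElem, ← pow_add, show p - 1 + (p - 1) = p + (p - 2) by omega, pow_add, hp',
        ← pow_succ']
      congr 1
      omega
    choose y hy using fun i : ZMod p =>
      exists_preimage p N (1 - (x - algebraMap (ZMod p) _ i) ^ (p - 1))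
    have hlift : ∀ i : ZMod p, IsIdempotentElem (y i ^ p ^ N) ∧
        fmap (red p N) (y i ^ p ^ N) = 1 - (x - algebraMap (ZMod p) _ i) ^ (p - 1) := by
      intro i
      constructor
      · obtain ⟨c, hc⟩ := exists_eq_nsmul p N (U := y i * y i - y i)
          (by rw [map_sub, map_mul, hy, (hidem i).eq, sub_self])
        have hdvd : ((p : ℕ) : fixedAlg m G (ZMod (p ^ (N + 1)))) ∣ y i * y i - y i :=
          ⟨c, by rw [hc, nsmul_eq_mul]⟩
        obtain ⟨c', hc'⟩ := dvd_sub_pow_of_dvd_sub hdvd N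
        rw [← Nat.cast_pow, ← nsmul_eq_mul, ← Nat.cast_smul_eq_nsmul (ZMod (p ^ (N + 1))),
          ZMod.natCast_self, zero_smul, sub_eq_zero] at hc'
        rw [IsIdempotentElem, ← mul_pow]
        exact hc'
      · rw [map_pow, hy, (hidem i).pow_eq (pow_ne_zero _ hpf.out.ne_zero)]
    obtain ⟨U'', hU''⟩ := exists_eq_nsmul p N (U := U' - ∑ i : ZMod p, i.val • y i ^ p ^ N) (by
      rw [map_sub, map_sum, sub_eq_zero, ← hx, eq_sum_interp p x]
      refine Finset.sum_congr rfl fun i _ => ?_
      rw [map_nsmul, (hlift i).2, ← Nat.cast_smul_eq_nsmul (ZMod p), ZMod.natCast_zmod_val])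
    refine ⟨I + p ^ k • ∑ i : ZMod p, i.val • y i ^ p ^ N, T.add_mem hI (T.nsmul_mem
      (T.sum_mem fun i _ => T.nsmul_mem (Subring.subset_closure (hlift i).1) _) _), U'', ?_⟩
    rw [hdec, show p ^ (k + 1) = p ^ k * p from pow_succ p k, mul_smul, ← hU'', smul_sub]
    abel

theorem good_mul_mod (hodd : p ≠ 2) {U V : fixedAlg m G (ZMod (p ^ (N + 1)))}
    (hU : piP p (cS U) = cS U) (hV : piP p (cS V) = cS V) :
    piP p (cS (U * V)) = cS (U * V) :=
  good_of_mem_closure p N hodd
    (Subring.mul_mem _ (mem_closure_of_good p N hodd hU) (mem_closure_of_good p N hodd hV))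

end Lift

section Int

variable {p : ℕ} [hpf : Fact p.Prime] {G : Type*} [Group G] [MulAction G (DihedralGroup m)]
  [DihAct G m]

theorem eq_of_forall_mod {f g : AddMonoidAlgebra ℤ (ZMod m)}
    (h : ∀ N, AddMonoidAlgebra.mapRingHom (ZMod m) (Int.castRingHom (ZMod (p ^ (N + 1)))) f =
      AddMonoidAlgebra.mapRingHom (ZMod m) (Int.castRingHom (ZMod (p ^ (N + 1)))) g) : f = g := by
  ext i
  have h1 := congrArg (fun F : AddMonoidAlgebra _ (ZMod m) => F.coeff i)
    (h (f.coeff i - g.coeff i).natAbs)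
  simp only [AddMonoidAlgebra.coeff_mapRingHom, Int.coe_castRingHom] at h1
  rw [ZMod.intCast_eq_intCast_iff_dvd_sub, Int.natCast_dvd] at h1
  rw [← neg_sub (f.coeff i) (g.coeff i), Int.natAbs_neg] at h1
  have h2 := (Nat.lt_succ_self _).trans
    (Nat.lt_pow_self (n := (f.coeff i - g.coeff i).natAbs + 1) hpf.out.one_lt)
  have := Nat.eq_zero_of_dvd_of_lt h1 h2
  omega

/-- Products of Frobenius-invariant elements of the integral Schur ring are invariant. -/
theorem good_mul (hodd : p ≠ 2) {U V : fixedAlg m G ℤ} (hU : piP p (cS U) = cS U)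
    (hV : piP p (cS V) = cS V) : piP p (cS (U * V)) = cS (U * V) := by
  refine eq_of_forall_mod (p := p) fun N => ?_
  rw [mapRing_piP, ← cS_fmap, map_mul]
  refine good_mul_mod p N hodd ?_ ?_
  · rw [cS_fmap, ← mapRing_piP, hU]
  · rw [cS_fmap, ← mapRing_piP, hV]

theorem good_pow (hodd : p ≠ 2) {U : fixedAlg m G ℤ} (hU : piP p (cS U) = cS U) :
    ∀ n : ℕ, piP p (cS (U ^ n)) = cS (U ^ n)
  | 0 => by rw [pow_zero, cS_one, map_one]
  | n + 1 => by rw [pow_succ]; exact good_mul hodd (good_pow hodd hU n) hU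

theorem co_mul_nonneg {U V : fixedAlg m G ℤ} (hU : ∀ h, 0 ≤ co U h) (hV : ∀ h, 0 ≤ co V h)
    (z : DihedralGroup m) : 0 ≤ co (U * V) z := by
  rw [co, Subalgebra.coe_mul, coeff_mul_eq]
  exact Finset.sum_nonneg fun x _ => mul_nonneg (hU x) (hV _)

/-- An invariant set with Frobenius-invariant rotation part is trivial, for `p ∣ m`. -/
theorem subset_one_of_good (hodd : p ≠ 2) (hpm : p ∣ m) {X : Set (DihedralGroup m)}
    (hX : IsInvariant G X) (hgood : piP p (cS (ind ℤ hX)) = cS (ind ℤ hX)) : X ⊆ {1} := by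
  classical
  set v := ind ℤ hX with hv
  have hv0 : ∀ h, 0 ≤ co v h := fun h => by rw [hv, co_ind]; split_ifs <;> norm_num
  have hvn : ∀ n h, 0 ≤ co (v ^ n) h := by
    intro n
    induction n with
    | zero => intro h; rw [pow_zero, co_one]; split_ifs <;> norm_num
    | succ n ih => intro h; rw [pow_succ]; exact co_mul_nonneg ih hv0 h
  have hcl : ∀ x ∈ Subgroup.closure X, ∃ n, 0 < co (v ^ n) x := by
    intro x hx
    rw [← Subgroup.mem_toSubmonoid, Subgroup.closure_toSubmonoid_of_finite] at hx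
    induction hx using Submonoid.closure_induction_right with
    | one => exact ⟨0, by rw [pow_zero, co_one, if_pos rfl]; norm_num⟩
    | mul_right a _ b hb ih =>
      obtain ⟨n, hn⟩ := ih
      refine ⟨n + 1, ?_⟩
      rw [pow_succ, co, Subalgebra.coe_mul, coeff_mul_eq]
      refine lt_of_lt_of_le ?_
        (Finset.single_le_sum (fun y _ => mul_nonneg (hvn n y) (hv0 _)) (Finset.mem_univ a))
      refine mul_pos hn ?_
      rw [inv_mul_cancel_left, hv]
      change 0 < co (ind ℤ hX) b
      rw [co_ind, if_pos hb]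
      norm_num
  rcases eq_bot_or_top G _ (SchurRing.isInvariant_closure DihAct.translating hX) with h | h
  · intro x hx
    have := Subgroup.subset_closure (k := X) hx
    rwa [h] at this
  · exfalso
    have hm0 : m ≠ 0 := NeZero.ne m
    obtain ⟨q, hq⟩ : ∃ q : ZMod m, p ∣ addOrderOf q := ⟨1, by rw [ZMod.addOrderOf_one]; exact hpm⟩
    obtain ⟨n, hn⟩ := hcl (r q) (h ▸ Subgroup.mem_top _)
    refine supp_of_piP_eq hpf.out (good_pow hodd hgood n) (x := q) ?_ hq
    rw [cS_coeff]
    exact hn.ne'

/-- A scaled idempotent is Frobenius invariant. -/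
theorem good_of_sq (hodd : p ≠ 2) (hpm : ¬ p ∣ m) {M : ℤ} (hM : M ≠ 0) {U : fixedAlg m G ℤ}
    (hU : U * U = M • U) : piP p (cS U) = cS U := by
  induction hn : M.natAbs using Nat.strong_induction_on generalizing M U with
  | _ n ih =>
    by_cases hd : (p : ℤ) ∣ M
    · obtain ⟨M', rfl⟩ := hd
      set φ := Int.castRingHom (ZMod p) with hφ
      have hsq : fmap φ U * fmap φ U = 0 := by
        rw [← map_mul, hU, map_zsmul, ← Int.cast_smul_eq_zsmul (ZMod p)]
        simp
      have hz : fmap φ U = 0 := by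
        refine eq_zero_of_cS_eq_zero (piP_injective hpf.out hpm ?_)
        rw [← cS_pow_prime hodd, map_zero,
          pow_eq_zero_of_le hpf.out.two_le ((sq _).trans hsq), map_zero]
      have hco : ∀ h, (p : ℤ) ∣ co U h := fun h => by
        rw [← ZMod.intCast_zmod_eq_zero_iff_dvd]
        have := (co_fmap φ U h).symm.trans (congrArg (fun V => co V h) hz)
        exact this
      obtain ⟨U', rfl⟩ : ∃ U' : fixedAlg m G ℤ, U = (p : ℤ) • U' :=
        ⟨ofFun (fun h => co U h / p) (fun g hg h => by simp only [co_smul_stab U hg]),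
          co_ext fun h => by
            rw [co_zsmul, co_ofFun, smul_eq_mul, Int.mul_ediv_cancel' (hco h)]⟩
      have hM' : M' ≠ 0 := right_ne_zero_of_mul hM
      have hU' : U' * U' = M' • U' := by
        have hp0 : (p : ℤ) ≠ 0 := by exact_mod_cast hpf.out.ne_zero
        refine co_ext fun h => ?_
        have := congrArg (fun V => co V h) hU
        simp only [co, smul_mul_assoc, mul_smul_comm, smul_smul, SetLike.val_smul,
          MonoidAlgebra.coeff_smul, Finsupp.smul_apply, smul_eq_mul] at this ⊢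
        refine mul_left_cancel₀ (mul_ne_zero hp0 hp0) ?_
        linear_combination this
      have := ih M'.natAbs (by
        rw [← hn, Int.natAbs_mul, Int.natAbs_natCast]
        exact lt_mul_of_one_lt_left (Int.natAbs_pos.2 hM') hpf.out.one_lt) hM' hU' rfl
      rw [map_zsmul, map_zsmul, this]
    · refine eq_of_forall_mod (p := p) fun N => ?_
      set φ := Int.castRingHom (ZMod (p ^ (N + 1))) with hφ
      rw [mapRing_piP, ← cS_fmap]
      have hu : IsUnit (M : ZMod (p ^ (N + 1))) := by
        rw [ZMod.coe_int_isUnit_iff_isCoprime, Nat.cast_pow]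
        exact IsCoprime.pow_left
          ((Int.prime_iff_natAbs_prime.2 (by simpa using hpf.out)).coprime_iff_not_dvd.2 hd)
      obtain ⟨u, hu⟩ := hu
      have hsq : fmap φ U * fmap φ U = (u : ZMod (p ^ (N + 1))) • fmap φ U := by
        rw [← map_mul, hU, map_zsmul, hu, Int.cast_smul_eq_zsmul]
      set E := ((u⁻¹ : (ZMod (p ^ (N + 1)))ˣ) : ZMod (p ^ (N + 1))) • fmap φ U with hE
      have hEE : E * E = E := by
        rw [hE, smul_mul_smul_comm, hsq, smul_smul, mul_assoc, Units.inv_mul, mul_one]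
      have hEU : fmap φ U = M • E := by
        rw [← Int.cast_smul_eq_zsmul (ZMod (p ^ (N + 1))), ← hu, hE, smul_smul, Units.mul_inv,
          one_smul]
      rw [hEU, map_zsmul, map_zsmul, good_of_idem p N hodd hEE]

end Int

end CfsgLib.DihedralB
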