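import Cfsg.Agent.DihedralB.RankThree

/-!
# Primitive groups with a regular dihedral subgroup are doubly transitive
-/

set_option autoImplicit false

open MulAction DihedralGroup
open CfsgLib.SchurRing (IsTranslating IsInvariant)

namespace CfsgLib.DihedralB

variable {m : ℕ} [NeZero m] {G : Type*} [Group G] [MulAction G (DihedralGroup m)] [DihAct G m]
  [Finite G] {p : ℕ} {q : ZMod m}

theorem mul_univ_coeff {R : Type*} [CommRing R] (K : fixedAlg m G R) (z : DihedralGroup m) :
    co (ind R (G := G) (X := (Set.univ : Set (DihedralGroup m))) isRI_univ.1 * K) z =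
      ∑ h, co K h := by
  classical
  rw [co, Subalgebra.coe_mul, coeff_mul_eq]
  refine Fintype.sum_equiv ((Equiv.inv _).trans (Equiv.mulRight z)) _ _ fun x => ?_
  rw [← co, ← co, co_ind, if_pos (Set.mem_univ x), one_mul]
  rfl

/-- If the atom of `r q` is everything, the orbit of every element is everything. -/
theorem orbit_eq_of_atom_eq (hP : Periodic G p q)
    (hA : ∀ z : DihedralGroup m, z ≠ 1 → z ∈ atom G (r q)) {x y : DihedralGroup m} (hx : x ≠ 1)
    (hy : y ≠ 1) : y ∈ orbit (stabilizer G (1 : DihedralGroup m)) x := by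
  classical
  set c := co (weight (G := G)) (r q) with hc
  have hP1 : ∀ z, z ≠ 1 → co (weight (G := G)) z = c := fun z hz =>
    co_eq_of_mem_atom ratFun_weight hP.rq_ne_one (hA z hz)
  have hXi : IsInvariant G (orbit (stabilizer G (1 : DihedralGroup m)) x) :=
    SchurRing.isInvariant_orbit x
  set X := orbit (stabilizer G (1 : DihedralGroup m)) x with hXdef
  have h1X : (1 : DihedralGroup m) ∉ X := fun h => ne_one_of_one_mem hx h
  set I := ind ℚ hXi with hI
  set J := ind ℚ (G := G) (X := ({1}ᶜ : Set (DihedralGroup m))) isRI_compl_one.1 with hJ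
  have hJpos : 0 < ∑ h, co J h := by
    refine lt_of_lt_of_le zero_lt_one ?_
    refine le_of_eq_of_le ?_ (Finset.single_le_sum (fun i _ => ?_) (Finset.mem_univ x))
    · rw [hJ, co_ind, if_pos (show x ∈ ({1}ᶜ : Set (DihedralGroup m)) from hx)]
    · rw [hJ, co_ind]; split_ifs <;> norm_num
  set t := (∑ h, co I h) / ∑ h, co J h with ht
  set K := I - t • J with hK
  have hKc : ∀ z, co K z = co I z - t * co J z := fun z => by rw [hK, co_sub, co_smul]
  have hsumK : ∑ h, co K h = 0 := by
    simp_rw [hKc]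
    rw [Finset.sum_sub_distrib, ← Finset.mul_sum, ht, div_mul_cancel₀ _ hJpos.ne', sub_self]
  have hK1 : co K 1 = 0 := by
    rw [hKc, hI, hJ, co_ind, co_ind, if_neg h1X, if_neg (fun h => h rfl)]
    simp
  have hweight : weight (G := G) (m := m) = (1 - c) • 1 + c •
      ind ℚ (G := G) (X := (Set.univ : Set (DihedralGroup m))) isRI_univ.1 := by
    refine co_ext fun z => ?_
    rw [co_add, co_smul, co_smul, co_one, co_ind, if_pos (Set.mem_univ z)]
    rcases eq_or_ne z 1 with rfl | hz
    · rw [co_weight_one, if_pos rfl]; ring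
    · rw [hP1 z hz, if_neg hz]; ring
  have hε : epsS K = 0 := by
    rw [← sum_mul_weight]
    calc ∑ h, co K h * co (weight (G := G)) h = ∑ h, co K h * c := by
          refine Finset.sum_congr rfl fun h _ => ?_
          rcases eq_or_ne h 1 with rfl | hh
          · rw [hK1, zero_mul, zero_mul]
          · rw [hP1 h hh]
      _ = 0 := by rw [← Finset.sum_mul, hsumK, zero_mul]
  have hzero : ∀ z, co K z = 0 := by
    intro z
    have h0 := weight_mul K
    rw [hε, zero_smul, hweight, add_mul, smul_mul_assoc, smul_mul_assoc, one_mul] at h0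
    have := congrArg (fun V => co V z) h0
    simp only [co_add, co_smul, mul_univ_coeff, hsumK, mul_zero, add_zero] at this
    rcases mul_eq_zero.1 (this.trans (show co (0 : fixedAlg m G ℚ) z = 0 from rfl)) with h | h
    · exact absurd (sub_eq_zero.1 h).symm (co_weight_r_ne_one hP.q_ne_zero)
    · exact h
  have hxI := hzero x
  have hyI := hzero y
  rw [hKc, hI, hJ, co_ind, co_ind, if_pos (mem_orbit_self x), if_pos (show x ∈ ({1}ᶜ : Set (DihedralGroup m)) from hx), mul_one] at hxI
  rw [hKc, hI, hJ, co_ind, co_ind, if_pos (show y ∈ ({1}ᶜ : Set (DihedralGroup m)) from hy), mul_one] at hyI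
  by_contra hne
  rw [if_neg hne] at hyI
  linarith
where
  ne_one_of_one_mem {x : DihedralGroup m} (hx : x ≠ 1)
      (h : (1 : DihedralGroup m) ∈ orbit (stabilizer G (1 : DihedralGroup m)) x) : False :=
    SchurRing.ne_one_of_mem_orbit hx h rfl

theorem atom_eq_compl_one (hP : Periodic G p q) (hcase : p ≠ 2 ∨ ∃ a, m = 2 ^ a) :
    ∀ z : DihedralGroup m, z ≠ 1 → z ∈ atom G (r q) := by
  classical
  intro z hz
  by_contra hzA
  set A := atom G (r q) with hAdef
  have hA : IsRI G A := isRI_atom (r q)
  have hA1 : (1 : DihedralGroup m) ∉ A := one_notMem_atom hP.rq_ne_one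
  set W := atom G z with hWdef
  have hnot : ∀ w, w ∉ A → r q ∉ atom G w := fun w hw hm => hw (by
    rw [hAdef, atom_eq hm]; exact mem_atom w)
  have hdis : ∀ u w : DihedralGroup m, u ∉ atom G w → Disjoint (atom G u) (atom G w) := fun u w huw =>
    Set.disjoint_left.2 fun v hv hv' => huw (by rw [← atom_eq hv', atom_eq hv]; exact mem_atom u)
  obtain ⟨z', hz', hz'A, hz'W⟩ : ∃ z', z' ≠ 1 ∧ z' ∉ A ∧ z' ∉ W := by
    by_contra! hcover
    exact rank_three_false hP hcase hz hzA fun u hu =>
      (em (u ∈ A)).imp id fun h => hcover u hu h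
  set W' := atom G z' with hW'def
  have e1 := theta_eq_neg hP (isRI_atom z) (one_notMem_atom hz) (hnot z hzA) ⟨z, mem_atom z⟩
    (isRI_atom z') (one_notMem_atom hz') (hnot z' hz'A) ⟨z', mem_atom z'⟩ (hdis z' z hz'W).symm
  have hzW' : z ∉ W' := fun h => hz'W (by rw [hWdef, atom_eq h]; exact mem_atom z')
  -- a third atom is impossible
  have hcover : ∀ u, u ≠ 1 → u ∈ A ∨ u ∈ W ∨ u ∈ W' := by
    intro u hu
    by_contra! hno
    obtain ⟨huA, huW, huW'⟩ := hno
    have e2 := theta_eq_neg hP (isRI_atom z) (one_notMem_atom hz) (hnot z hzA) ⟨z, mem_atom z⟩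
      (isRI_atom u) (one_notMem_atom hu) (hnot u huA) ⟨u, mem_atom u⟩ (hdis u z huW).symm
    have e3 := theta_eq_neg hP (isRI_atom z') (one_notMem_atom hz') (hnot z' hz'A)
      ⟨z', mem_atom z'⟩ (isRI_atom u) (one_notMem_atom hu) (hnot u huA) ⟨u, mem_atom u⟩
      (hdis u z' huW').symm
    exact (eta_ne_zero hP (isRI_atom z) (one_notMem_atom hz) (hnot z hzA) ⟨z, mem_atom z⟩).1
      (by linarith)
  -- the signed size of `A` is `-1`
  have hsum : ind ℚ hA.1 + ind ℚ (isRI_atom z).1 + ind ℚ (isRI_atom z').1 + 1 =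
      ind ℚ (G := G) (X := (Set.univ : Set (DihedralGroup m))) isRI_univ.1 := by
    refine co_ext fun u => ?_
    rw [co_add, co_add, co_add, co_ind, co_ind, co_ind, co_ind, co_one, if_pos (Set.mem_univ u)]
    rcases eq_or_ne u 1 with rfl | hu
    · rw [if_neg hA1, if_neg (one_notMem_atom hz), if_neg (one_notMem_atom hz'), if_pos rfl]
      ring
    · rw [if_neg hu]
      rcases hcover u hu with h | h | h
      · rw [if_pos h, if_neg fun h' => hnot z hzA (by
          rw [← atom_eq h', atom_eq h]; exact mem_atom _),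
          if_neg fun h' => hnot z' hz'A (by rw [← atom_eq h', atom_eq h]; exact mem_atom _)]
        ring
      · have hA' : u ∉ A := fun h' => hnot z hzA (by
          rw [← atom_eq h, atom_eq h']; exact mem_atom _)
        rw [if_neg hA', if_pos h, if_neg fun h' => hz'W (by
          rw [hWdef, ← atom_eq h, atom_eq h']; exact mem_atom _)]
        ring
      · have hA' : u ∉ A := fun h' => hnot z' hz'A (by
          rw [← atom_eq h, atom_eq h']; exact mem_atom _)
        rw [if_neg hA', if_pos h, if_neg fun h' => hzW' (by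
          rw [hW'def, ← atom_eq h, atom_eq h']; exact mem_atom _)]
        ring
  have hεA : theta hA.1 = -1 := by
    have h := congrArg epsS hsum
    rw [map_add, map_add, map_add, map_one] at h
    have h0 : epsS (ind ℚ (G := G) (X := (Set.univ : Set (DihedralGroup m))) isRI_univ.1) = 0 := by
      rw [epsS_apply, sum_dihedral]
      simp [co_ind]
    rw [h0] at h
    have : theta hA.1 + theta (isRI_atom z).1 + theta (isRI_atom z').1 + 1 = 0 := h
    linarith
  have hb := main_eq hP hA hA1
  rw [if_pos (mem_atom _), hεA, neg_add_cancel, zero_smul] at hb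
  have hb' := (smul_eq_zero.1 hb).resolve_left (alpha_ne_zero hP)
  have hU : IsRI G (A ∪ {1}) := isRI_union hA isRI_one
  have heq : ind ℚ hU.1 = ind ℚ hA.1 + 1 := by
    refine co_ext fun u => ?_
    rw [co_add, co_ind, co_ind, co_one]
    rcases eq_or_ne u 1 with rfl | hu
    · rw [if_pos (show (1 : DihedralGroup m) ∈ A ∪ {1} from Or.inr rfl), if_neg hA1, if_pos rfl, zero_add]
    · have : u ∈ A ∪ {1} ↔ u ∈ A := or_iff_left hu
      simp only [this, if_neg hu, add_zero]
  have hc1 : cS (ind ℚ hU.1) * diff q = 0 := by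
    rw [heq, map_add, cS_one, add_mul, one_mul, cS_mul_diff hP (ratFun_ind ℚ hA.1 hA.2), co_ind,
      co_ind, if_neg hA1, if_pos (mem_atom _), zero_sub, neg_smul, one_smul, neg_add_cancel]
  have hb1 : bS (ind ℚ hU.1) * diff q = 0 := by
    rw [heq, map_add, bS_one, add_zero]
    exact hb'
  rcases empty_or_univ_of_diff hP hU.1 hc1 hb1 with h | h
  · exact Set.notMem_empty (1 : DihedralGroup m) (h ▸ Or.inr rfl)
  · exact hzA ((h ▸ Set.mem_univ z : z ∈ A ∪ {1}).resolve_right hz)

/-- Primitive groups with a regular dihedral subgroup are doubly transitive. -/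
theorem stabilizer_transitive (x y : DihedralGroup m) (hx : x ≠ 1) (hy : y ≠ 1) :
    y ∈ orbit (stabilizer G (1 : DihedralGroup m)) x := by
  by_cases h : ∃ p : ℕ, p.Prime ∧ p ≠ 2 ∧ p ∣ m
  · obtain ⟨p, hp, h2, hpm⟩ := h
    have := Fact.mk hp
    obtain ⟨q, hq⟩ := exists_prime_addOrderOf_dvd_card (G := ZMod m) p (by rwa [ZMod.card])
    have hP := periodic_odd (G := G) h2 hq
    exact orbit_eq_of_atom_eq hP (atom_eq_compl_one hP (Or.inl h2)) hx hy
  · push Not at h
    obtain ⟨a, ha⟩ : ∃ a, m = 2 ^ a :=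
      ⟨_, Nat.eq_prime_pow_of_unique_prime_dvd (NeZero.ne m) fun {d} hd hdm =>
        by_contra fun hd2 => h d hd hd2 hdm⟩
    have ha1 : a ≠ 0 := by
      intro h0
      have := DihAct.two_le (G := G) (m := m)
      rw [ha, h0] at this
      omega
    obtain ⟨q, hq⟩ := exists_prime_addOrderOf_dvd_card (G := ZMod m) 2
      (by rw [ZMod.card, ha]; exact dvd_pow_self 2 ha1)
    have hP := periodic_two (G := G) ha hq
    exact orbit_eq_of_atom_eq hP (atom_eq_compl_one hP (Or.inr ⟨a, ha⟩)) hx hy

end CfsgLib.DihedralB
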