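import Mathlib

/-!
# The arithmetic of a rank three Schur ring over a dihedral group

`x`, `y` are the numbers of rotations and of reflections of one of the two basic sets.
-/

set_option autoImplicit false

namespace CfsgLib.DihedralB

theorem numeric_odd (p m x y θ μ : ℤ) (hp : 3 ≤ p) (hx : 0 ≤ x) (hy : 0 ≤ y) (hxm : x ≤ m)
    (hym : y ≤ m) (hθ : θ = x - y) (hd : p ≤ |θ|) (hk : x + y = θ ^ 2 + μ)
    (hxy : 2 * x * y = μ * m) (hin : p * (x * (m - x)) ≤ θ ^ 2 * (m - p)) : False := by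
  subst hθ
  set θ := x - y with hθ
  have h4 : 4 * (x * (m - x)) = θ ^ 2 * (2 * m - 2) + 2 * θ * (m - (x + y)) := by
    linear_combination (2 * m - 0) * hk - 2 * hxy
  have habs : -(θ * (m - (x + y))) ≤ |θ| * m := by
    calc -(θ * (m - (x + y))) ≤ |θ * (m - (x + y))| := neg_le_abs _
      _ = |θ| * |m - (x + y)| := abs_mul _ _
      _ ≤ |θ| * m := mul_le_mul_of_nonneg_left (abs_le.2 ⟨by linarith, by linarith⟩) (abs_nonneg _)
  have hsq : θ ^ 2 = |θ| * |θ| := by rw [← abs_mul, abs_of_nonneg (mul_self_nonneg θ), sq]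
  set T := |θ| with hT
  have h1 : T * T * ((2 * p - 4) * m + 2 * p) ≤ T * (2 * p * m) := by
    rw [← hsq]
    nlinarith [hin, h4, mul_le_mul_of_nonneg_left habs (show (0 : ℤ) ≤ 2 * p by linarith)]
  have hTpos : 0 < T := by linarith
  have h2 : T * ((2 * p - 4) * m + 2 * p) ≤ 2 * p * m :=
    le_of_mul_le_mul_left (by linarith [h1]) hTpos
  have hm : 0 ≤ m := hx.trans hxm
  have h3 : 0 ≤ (2 * p - 4) * m + 2 * p := by nlinarith
  have h5 : 3 * ((2 * p - 4) * m + 2 * p) ≤ T * ((2 * p - 4) * m + 2 * p) :=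
    mul_le_mul_of_nonneg_right (by linarith) h3
  nlinarith [mul_nonneg (show (0 : ℤ) ≤ p - 3 by linarith) hm]

theorem two_mul_eq_of_mul_eq {a : ℕ} {u v N : ℤ} (hu : Odd u) (hN : Odd N)
    (h : v * u = 2 ^ a * N) (hv0 : 0 < v) (hv : v ≤ 2 ^ (a + 1)) : v = 2 ^ a := by
  have hcop : IsCoprime ((2 : ℤ) ^ a) u := by
    refine IsCoprime.pow_left ?_
    obtain ⟨t, rfl⟩ := hu
    exact ⟨-t, 1, by ring⟩
  obtain ⟨t, rfl⟩ := hcop.dvd_of_dvd_mul_right (⟨N, h⟩ : (2 : ℤ) ^ a ∣ v * u)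
  have h2 : (0 : ℤ) < 2 ^ a := by positivity
  have ht : t * u = N := mul_left_cancel₀ h2.ne' (by linear_combination h)
  rw [← ht, Int.odd_mul] at hN
  have ht0 : 0 < t := pos_of_mul_pos_right hv0 h2.le
  have ht2 : t ≤ 2 := le_of_mul_le_mul_left (by rw [← pow_succ]; exact hv) h2
  obtain ⟨s, hs⟩ := hN.1
  have : t = 1 := by omega
  rw [this, mul_one]

theorem numeric_two (a : ℕ) (m x y θ μ : ℤ) (hm : m = 2 ^ a) (hx0 : 0 < x) (hxm : x + 2 ≤ m)
    (hxe : Even x) (hy0 : 0 < y) (hym : y ≤ m) (hθ : θ = x - y) (hk : x + y = θ ^ 2 + μ)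
    (hxy : 2 * x * y = μ * m) (hin : 2 * (x * (m - x)) ≤ θ ^ 2 * (m - 2)) :
    2 * y = m ∧ θ ^ 2 = y ∧ 8 ∣ m := by
  have hkk : (x + y) * (2 * m - (x + y)) = θ ^ 2 * (2 * m - 1) := by
    linear_combination (2 * m) * hk - 2 * hxy + (x - y + θ) * hθ
  obtain ⟨j, hj⟩ := hxe
  have hpow : (2 : ℤ) ^ (a + 1) = 2 * m := by rw [hm, pow_succ]; ring
  -- `x + y` is even
  have hke : Even (x + y) := by
    by_contra hodd
    rw [Int.not_even_iff_odd] at hodd
    have hy : Odd y := (Int.odd_add.1 (by rwa [add_comm] at hodd)).2 ⟨j, hj⟩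
    have hμ : Even μ := by
      have hθo : Odd θ := by rw [hθ]; exact Even.sub_odd ⟨j, hj⟩ hy
      have : μ = (x + y) - θ ^ 2 := by linarith
      rw [this]
      exact hodd.sub_odd hθo.pow
    obtain ⟨μ', hμ'⟩ := hμ
    have hd : (2 : ℤ) ^ a ∣ x * y := ⟨μ', by rw [← hm]; nlinarith [hxy, hμ']⟩
    have hcop : IsCoprime ((2 : ℤ) ^ a) y := by
      refine IsCoprime.pow_left ?_
      obtain ⟨t, rfl⟩ := hy
      exact ⟨-t, 1, by ring⟩
    have hle := Int.le_of_dvd hx0 (hcop.dvd_of_dvd_mul_right hd)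
    rw [← hm] at hle
    linarith
  -- write `x = 2 ^ e * X`, `y = 2 ^ e * Y` with `X + Y` odd
  have hkpos : 0 < x + y := by linarith
  have hkm : x + y < 2 * m := by linarith
  obtain ⟨e, K, hK, hkeq⟩ := Nat.exists_eq_two_pow_mul_odd (n := (x + y).natAbs) (by omega)
  have hkint : x + y = (2 : ℤ) ^ e * (K : ℤ) := by
    rw [← Int.natAbs_of_nonneg hkpos.le, hkeq]; push_cast; ring
  have hK1 : 1 ≤ (K : ℤ) := by exact_mod_cast hK.pos
  have he : e ≤ a := by
    by_contra he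
    have h1 : (2 : ℤ) ^ (a + 1) ≤ 2 ^ e := pow_le_pow_right₀ (by norm_num) (by omega)
    have h2 : (2 : ℤ) ^ e ≤ 2 ^ e * K := le_mul_of_one_le_right (by positivity) hK1
    linarith
  have he1 : 1 ≤ e := by
    by_contra he0
    have : e = 0 := by omega
    subst this
    rw [pow_zero, one_mul] at hkint
    rw [hkint, Int.even_coe_nat] at hke
    exact Nat.not_even_iff_odd.2 hK hke
  obtain ⟨L, hL, hL2⟩ : ∃ L : ℤ, Odd L ∧ 2 * m - (x + y) = 2 ^ e * L := by
    refine ⟨2 ^ (a + 1 - e) - K, Even.sub_odd ?_ ((Int.odd_coe_nat K).2 hK), ?_⟩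
    · exact (Int.even_pow' (by omega)).2 even_two
    · rw [mul_sub, ← pow_add, show e + (a + 1 - e) = a + 1 by omega, hpow, hkint]
  have hθ0 : θ ≠ 0 := fun h0 => by
    rw [h0, zero_pow two_ne_zero, zero_mul, mul_eq_zero] at hkk
    rcases hkk with h | h <;> linarith
  obtain ⟨f, Θ', hΘ', hθeq⟩ := Nat.exists_eq_two_pow_mul_odd (Int.natAbs_ne_zero.2 hθ0)
  obtain ⟨Θ, hΘ, hθint⟩ : ∃ Θ : ℤ, Odd Θ ∧ θ = 2 ^ f * Θ := by
    rcases Int.natAbs_eq θ with h | h
    · exact ⟨Θ', (Int.odd_coe_nat _).2 hΘ', by rw [h, hθeq]; push_cast; ring⟩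
    · exact ⟨-Θ', ((Int.odd_coe_nat _).2 hΘ').neg, by rw [h, hθeq]; push_cast; ring⟩
  have hfe : f = e := by
    have hKo := (Int.odd_coe_nat K).2 hK
    have h2m : Odd (2 * m - 1) := ⟨m - 1, by ring⟩
    rw [hL2, hkint, hθint] at hkk
    have hEq : (2 : ℤ) ^ (2 * f) * (Θ ^ 2 * (2 * m - 1)) = 2 ^ (2 * e) * (K * L) := by
      linear_combination -hkk
    rcases Nat.lt_trichotomy f e with hlt | heq | hgt
    · exfalso
      rw [show 2 * e = 2 * f + (2 * e - 2 * f) by omega, pow_add, mul_assoc] at hEq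
      have h3 := mul_left_cancel₀ (pow_ne_zero _ two_ne_zero) hEq
      exact Int.not_even_iff_odd.2 (hΘ.pow.mul h2m)
        (h3 ▸ ((Int.even_pow' (by omega)).2 even_two).mul_right _)
    · exact heq
    · exfalso
      rw [show 2 * f = 2 * e + (2 * f - 2 * e) by omega, pow_add, mul_assoc] at hEq
      have h3 := mul_left_cancel₀ (pow_ne_zero _ two_ne_zero) hEq
      exact Int.not_even_iff_odd.2 (hKo.mul hL)
        (h3 ▸ ((Int.even_pow' (by omega)).2 even_two).mul_right _)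
  subst hfe
  obtain ⟨X, hX⟩ : ∃ X : ℤ, (K : ℤ) + Θ = X + X := ((Int.odd_coe_nat K).2 hK).add_odd hΘ
  set Y : ℤ := K - X with hY
  have hxX : x = 2 ^ f * X := by
    have : 2 * x = 2 * (2 ^ f * X) := by
      linear_combination hkint - hθ + hθint + (2 : ℤ) ^ f * hX
    linarith
  have hyY : y = 2 ^ f * Y := by rw [hY, mul_sub]; linarith
  have hμ : μ = 2 ^ f * (K - 2 ^ f * Θ ^ 2) := by
    linear_combination -hk + hkint - (θ + 2 ^ f * Θ) * hθint
  have hN : Odd ((K : ℤ) - 2 ^ f * Θ ^ 2) :=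
    ((Int.odd_coe_nat K).2 hK).sub_even (((Int.even_pow' (by omega)).2 even_two).mul_right _)
  have hprod : 2 * (2 ^ f * (X * Y)) = 2 ^ a * ((K : ℤ) - 2 ^ f * Θ ^ 2) := by
    refine mul_left_cancel₀ (pow_ne_zero f (two_ne_zero (α := ℤ))) ?_
    rw [← hm]
    rw [hxX, hyY, hμ] at hxy
    linear_combination hxy
  have hhalf : 2 * x = m ∨ 2 * y = m := by
    rcases Int.even_or_odd X with hXe | hXo
    · have hYo : Odd Y := by rw [hY]; exact ((Int.odd_coe_nat K).2 hK).sub_even hXe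
      refine Or.inl ?_
      rw [hm]
      exact two_mul_eq_of_mul_eq hYo hN (by rw [hxX, ← hprod]; ring) (by linarith)
        (by rw [hpow]; linarith)
    · refine Or.inr ?_
      rw [hm]
      exact two_mul_eq_of_mul_eq hXo hN (by rw [hyY, ← hprod]; ring) (by linarith)
        (by rw [hpow]; linarith)
  rcases hhalf with h | h
  · exfalso
    have hθ2 : θ ^ 2 * (2 * m) = m * m := by
      subst hθ
      linear_combination -hkk + (m - 2 * y) * h
    have hm0 : 0 < m := by linarith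
    have h2 : θ ^ 2 * 2 = m := mul_left_cancel₀ hm0.ne' (by linear_combination hθ2)
    nlinarith
  · have hθ2 : θ ^ 2 * (2 * m) = m * m := by
      subst hθ
      linear_combination -hkk + (m - 2 * x) * h
    have hm0 : 0 < m := by linarith
    have h2 : θ ^ 2 * 2 = m := mul_left_cancel₀ hm0.ne' (by linear_combination hθ2)
    refine ⟨h, by linarith, ?_⟩
    obtain ⟨c, hc⟩ : (2 : ℤ) ∣ θ := by
      rw [hθint]
      exact Dvd.dvd.mul_right (dvd_pow_self 2 (by omega)) _
    exact ⟨c ^ 2, by rw [← h2, hc]; ring⟩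

/-- An antiperiodic `0,1`-sequence of half period `n` has an odd number of rises. -/
theorem antiperiodic_parity (n h : ℕ) (s : ℕ → ℕ)
    (hs : ∀ j, s j + s (j + n) = 1) (hsum : ∑ j ∈ Finset.range (n + n), s j * s (j + 1) = h)
    (hn : n = 2 * h) (hh : Even h) : False := by
  set t : ℕ → ZMod 2 := fun j => (s j : ZMod 2) with ht
  have htn : ∀ j, t (j + n) = 1 + t j := by
    intro j
    have h1 := congrArg (fun k : ℕ => (k : ZMod 2)) (hs j)
    simp only [Nat.cast_add, Nat.cast_one] at h1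
    rw [← h1]
    simp only [ht]
    ring_nf
    rw [show (2 : ZMod 2) = 0 by decide, mul_zero, zero_add]
  have e2 : (2 : ZMod 2) = 0 := by decide
  have h1 : ∑ j ∈ Finset.range (n + n), t j * (1 + t (j + 1)) = 1 := by
    rw [Finset.sum_range_add, ← Finset.sum_add_distrib]
    have : ∀ j, t j * (1 + t (j + 1)) + t (n + j) * (1 + t (n + j + 1)) = t j + t (j + 1) := by
      intro j
      rw [add_comm n j, show j + n + 1 = j + 1 + n by ring, htn, htn]
      linear_combination (1 + t j + t j * t (j + 1)) * e2 + (0 : ZMod 2) * e2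
    rw [Finset.sum_congr rfl fun j _ => this j, Finset.sum_add_distrib]
    have h2 := Finset.sum_range_succ t n
    rw [Finset.sum_range_succ'] at h2
    have h3 := htn 0
    rw [zero_add] at h3
    linear_combination h2 + h3 + (∑ j ∈ Finset.range n, t j + 0 * t 0) * e2
  have h2 : ∑ j ∈ Finset.range (n + n), s j = n := by
    rw [Finset.sum_range_add, ← Finset.sum_add_distrib,
      Finset.sum_congr rfl fun j _ => by rw [add_comm n j, hs]]
    simp
  have h3 : ∑ j ∈ Finset.range (n + n), t j * (1 + t (j + 1)) = ((n + h : ℕ) : ZMod 2) := by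
    calc ∑ j ∈ Finset.range (n + n), t j * (1 + t (j + 1))
        = ∑ j ∈ Finset.range (n + n), ((s j + s j * s (j + 1) : ℕ) : ZMod 2) := by
          refine Finset.sum_congr rfl fun j _ => ?_
          simp only [ht]
          push_cast
          ring
      _ = ((n + h : ℕ) : ZMod 2) := by rw [← Nat.cast_sum, Finset.sum_add_distrib, h2, hsum]
  rw [h3, ZMod.natCast_eq_one_iff_odd] at h1
  obtain ⟨c, rfl⟩ := hh
  obtain ⟨d, hd⟩ := h1
  omega

end CfsgLib.DihedralB
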