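import Cfsg.Agent.DihedralB.Structure
import Cfsg.Agent.DihedralB.Numeric

/-!
# There is no rank three Schur ring over a dihedral group

Here `{1}ᶜ` is covered by the atom of `r q` and one further atom `W`.  The rotation part `w` of
`W`, made orthogonal to the sum of all rotations, satisfies `w ^ 3 = θ ^ 2 w`, which gives an
inequality between the sizes; arithmetic and a parity argument finish.
-/

set_option autoImplicit false

open MulAction DihedralGroup
open CfsgLib.SchurRing (IsTranslating IsInvariant)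

namespace CfsgLib.DihedralB

variable {m : ℕ} [NeZero m]

/-- The sum of the multiples of `q` below `p`. -/
noncomputable def subSum (p : ℕ) (q : ZMod m) : AddMonoidAlgebra ℚ (ZMod m) :=
  ∑ k ∈ Finset.range p, AddMonoidAlgebra.single (k • q) 1

theorem mul_single_of_diff {q : ZMod m} {f : AddMonoidAlgebra ℚ (ZMod m)} (h : f * diff q = 0) :
    ∀ k : ℕ, f * AddMonoidAlgebra.single (k • q) 1 = f
  | 0 => by rw [zero_nsmul, ← AddMonoidAlgebra.one_def, mul_one]
  | k + 1 => by
    rw [succ_nsmul, show AddMonoidAlgebra.single (k • q + q) (1 : ℚ) =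
      AddMonoidAlgebra.single (k • q) 1 * AddMonoidAlgebra.single q 1 by
        rw [AddMonoidAlgebra.single_mul_single, mul_one], ← mul_assoc, mul_single_of_diff h k]
    rw [diff, mul_sub, mul_one, sub_eq_zero] at h
    exact h.symm

theorem mul_subSum {p : ℕ} {q : ZMod m} {f : AddMonoidAlgebra ℚ (ZMod m)} (h : f * diff q = 0) :
    f * subSum p q = (p : ℚ) • f := by
  rw [subSum, Finset.mul_sum, Finset.sum_congr rfl fun k _ => mul_single_of_diff h k,
    Finset.sum_const, Finset.card_range, Nat.cast_smul_eq_nsmul]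

theorem subSum_mul_diff {p : ℕ} {q : ZMod m} (hq : p • q = 0) : subSum p q * diff q = 0 := by
  rw [subSum, diff, mul_sub, mul_one, Finset.sum_mul]
  simp_rw [AddMonoidAlgebra.single_mul_single, mul_one, ← succ_nsmul]
  rw [← Finset.sum_sub_distrib, Finset.sum_range_sub' (fun k => AddMonoidAlgebra.single (k • q) (1 : ℚ)),
    hq, zero_nsmul, sub_self]

theorem tilde_subSum {p : ℕ} (hp : p ≠ 0) {q : ZMod m} (hq : p • q = 0) :
    tilde (subSum p q) = subSum p q := by
  have h := subSum_mul_diff (p := p) hq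
  have h1 := mul_subSum (p := p) (tilde_mul_diff q h)
  have h2 := congrArg tilde h1
  rw [map_mul, tilde_tilde, tilde_smul, tilde_tilde, mul_comm, h1] at h2
  exact smul_right_injective _ (Nat.cast_ne_zero.2 hp) h2

theorem subSum_coeff_zero {p : ℕ} (hp : 0 < p) {q : ZMod m} (hq : addOrderOf q = p) :
    (subSum p q).coeff 0 = 1 := by
  classical
  rw [subSum, AddMonoidAlgebra.coeff_sum, Finsupp.finsetSum_apply, Finset.sum_eq_single 0]
  · simp
  · intro k hk hk0
    rw [AddMonoidAlgebra.coeff_single, Finsupp.single_apply, if_neg]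
    intro h
    rw [← addOrderOf_dvd_iff_nsmul_eq_zero, hq] at h
    exact hk0 (Nat.eq_zero_of_dvd_of_lt h (Finset.mem_range.1 hk))
  · simp [Finset.mem_range, hp]

theorem sum_zmod_eq_range {M : Type*} [AddCommMonoid M] (F : ZMod m → M) :
    ∑ i, F i = ∑ j ∈ Finset.range m, F j := by
  refine Finset.sum_nbij' (fun i => i.val) (fun j => (j : ZMod m)) ?_ ?_ ?_ ?_ ?_
  · intro i _; exact Finset.mem_range.2 (ZMod.val_lt i)
  · intro j _; exact Finset.mem_univ _
  · intro i _; exact ZMod.natCast_zmod_val i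
  · intro j hj; exact ZMod.val_natCast_of_lt (Finset.mem_range.1 hj)
  · intro i _; rw [ZMod.natCast_zmod_val]

variable {G : Type*} [Group G] [MulAction G (DihedralGroup m)] [DihAct G m] [Finite G]
variable {p : ℕ} {q : ZMod m}

theorem rank_three_false (hP : Periodic G p q) (hcase : p ≠ 2 ∨ ∃ a, m = 2 ^ a)
    {h : DihedralGroup m} (hh1 : h ≠ 1) (hhA : h ∉ atom G (r q))
    (hcover : ∀ z, z ≠ 1 → z ∈ atom G (r q) ∨ z ∈ atom G h) : False := by
  classical
  have := Fact.mk hP.prime
  set W := atom G h with hWdef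
  have hW : IsRI G W := isRI_atom h
  have h1 : (1 : DihedralGroup m) ∉ W := one_notMem_atom hh1
  have hqW : r q ∉ W := fun hm => hhA (by rw [atom_eq hm]; exact mem_atom h)
  have hne : W.Nonempty := ⟨h, mem_atom h⟩
  set ι := Int.castRingHom ℚ with hι
  -- the square of the indicator is constant on atoms
  set w := ind ℚ hW.1 with hw
  set T := ind ℤ hW.1 * ind ℤ hW.1 with hT
  have hTrat : RatFun T := ratFun_of_good fun s hs h2 hm => by
    have := Fact.mk hs
    exact good_mul h2 (good_ind hW.1 hW.2 hs h2 hm) (good_ind hW.1 hW.2 hs h2 hm)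
  have hTw : ∀ z, co (w * w) z = ((co T z : ℤ) : ℚ) := fun z => by
    rw [hw, ← fmap_ind ι hW.1, ← map_mul, co_fmap]
    rfl
  have hrat : RatFun (w * w) := fun s hs h2 hm x => by rw [hTw, hTw, hTrat s hs h2 hm x]
  set k := co (w * w) 1 with hk
  set μ := co (w * w) (r q) with hμ
  set lam := co (w * w) h with hlam
  set U := ind ℚ (G := G) (X := (Set.univ : Set (DihedralGroup m))) isRI_univ.1 with hU
  have hsq : w * w = (k - μ) • 1 + μ • U + (lam - μ) • w := by
    refine co_ext fun z => ?_
    rw [co_add, co_add, co_smul, co_smul, co_smul, co_one, hU, co_ind, hw, co_ind, ← hw,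
      if_pos (Set.mem_univ z)]
    rcases eq_or_ne z 1 with rfl | hz
    · rw [if_pos rfl, if_neg h1, ← hk]; ring
    · rw [if_neg hz]
      rcases hcover z hz with hzA | hzW
      · have hzW : z ∉ W := fun hm => hqW (by
          rw [hWdef, ← atom_eq hm, atom_eq hzA]; exact mem_atom _)
        rw [if_neg hzW, co_eq_of_mem_atom hrat hP.rq_ne_one hzA, ← hμ]; ring
      · rw [if_pos hzW, co_eq_of_mem_atom hrat hh1 hzW, ← hlam]; ring
  set w1 := cS w with hw1
  set w2 := bS w with hw2
  have E1 : w1 * w1 + tilde w2 * w2 = (k - μ) • 1 + μ • allOnes + (lam - μ) • w1 := by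
    rw [hw1, hw2, ← cS_mul, hsq, map_add, map_add, map_smul, map_smul, map_smul, cS_one, hU,
      cS_ind_univ]
  have E2 : w1 * w2 + w2 * w1 = μ • allOnes + (lam - μ) • w2 := by
    rw [hw1, hw2, ← bS_mul, hsq, map_add, map_add, map_smul, map_smul, map_smul, bS_one, hU,
      bS_ind_univ, smul_zero, zero_add]
  have hD1 : w1 * diff q = 0 := by
    rw [hw1, hw, cS_mul_diff hP (ratFun_ind ℚ hW.1 hW.2), co_ind, co_ind, if_neg h1, if_neg hqW,
      sub_self, zero_smul]
  have hAC : tilde w2 * w2 * diff q = theta hW.1 ^ 2 • diff q := autocorr hP hW h1 hqW hne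
  set θ := theta hW.1 with hθdef
  have hθ0 : θ ≠ 0 := (eta_ne_zero hP hW h1 hqW hne).1
  have hD2 : w2 * diff q ≠ 0 := bS_diff_ne_zero hP hW h1 hqW hne ℚ
  have hlm : lam = μ := by
    have h' := congrArg (· * diff q) E2
    have h0 : (lam - μ) • (w2 * diff q) = 0 := by
      simp only [Algebra.smul_def] at h' ⊢
      linear_combination -h' + 2 * w2 * hD1 - algebraMap ℚ _ μ * allOnes_mul_diff (R := ℚ) q
    rcases smul_eq_zero.1 h0 with h0 | h0
    · linarith
    · exact absurd h0 hD2
  have hkμ : k - μ = θ ^ 2 := by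
    have h' := congrArg (· * diff q) E1
    have h0 : (k - μ - θ ^ 2) • (diff q : AddMonoidAlgebra ℚ (ZMod m)) = 0 := by
      simp only [Algebra.smul_def, map_sub, map_pow] at h' hAC ⊢
      linear_combination -h' + (w1 - algebraMap ℚ _ lam + algebraMap ℚ _ μ) * hD1 + hAC
        - algebraMap ℚ _ μ * allOnes_mul_diff (R := ℚ) q
    rcases smul_eq_zero.1 h0 with h0 | h0
    · linarith
    · exact absurd h0 (diff_ne_zero hP.q_ne_zero)
  rw [hlm, sub_self, zero_smul, add_zero] at E1 E2
  rw [hkμ] at E1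
  -- sizes
  set S1 := Finset.univ.filter fun i : ZMod m => r i ∈ W with hS1
  set S2 := Finset.univ.filter fun i : ZMod m => sr i ∈ W with hS2
  have hw1c : ∀ i, w1.coeff i = if r i ∈ W then 1 else 0 := fun i => by rw [hw1, cS_coeff, hw, co_ind]
  have hw2c : ∀ i, w2.coeff i = if sr i ∈ W then 1 else 0 := fun i => by rw [hw2, bS_coeff, hw, co_ind]
  set X : ℚ := (S1.card : ℚ) with hX
  set Y : ℚ := (S2.card : ℚ) with hY
  have hX' : ∑ i, w1.coeff i = X := by simp_rw [hw1c, hX, hS1, Finset.sum_boole]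
  have hY' : ∑ i, w2.coeff i = Y := by simp_rw [hw2c, hY, hS2, Finset.sum_boole]
  have hkXY : k = X + Y := by
    rw [hk, co_mul_one, sum_dihedral, ← hX', ← hY']
    congr 1 <;> refine Finset.sum_congr rfl fun i _ => ?_
    · rw [hw1c, hw, co_ind]; split_ifs <;> norm_num
    · rw [hw2c, hw, co_ind]; split_ifs <;> norm_num
  have hθXY : θ = X - Y := by
    rw [hθdef, theta, epsS_apply, sum_dihedral, ← hX', ← hY', sub_eq_add_neg,
      ← Finset.sum_neg_distrib]
    congr 1 <;> refine Finset.sum_congr rfl fun i _ => ?_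
    · rw [hw1c, co_ind, sgn_r, mul_one]
    · rw [hw2c, co_ind, sgn_sr, mul_neg_one]
  have hones : allOnes * allOnes = (m : ℚ) • (allOnes (R := ℚ) (m := m)) := by
    rw [mul_allOnes]; simp
  have hw1C : w1 * allOnes = X • allOnes := by rw [mul_allOnes, hX']
  have hw2C : w2 * allOnes = Y • allOnes := by rw [mul_allOnes, hY']
  have hxy : 2 * X * Y = μ * m := by
    have h' := congrArg (· * allOnes) E2
    have h0 : (2 * X * Y - μ * m) • (allOnes (R := ℚ) (m := m)) = 0 := by
      simp only [Algebra.smul_def, map_sub, map_mul, map_ofNat] at h' hw1C hw2C hones ⊢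
      linear_combination h' - 2 * algebraMap ℚ _ Y * hw1C - 2 * w1 * hw2C + algebraMap ℚ _ μ * hones
    have := congrArg (fun f : AddMonoidAlgebra ℚ (ZMod m) => f.coeff 0) h0
    simp at this
    linarith
  -- the inequality
  have htw2C : tilde w2 * allOnes = Y • allOnes := by
    rw [mul_allOnes, ← hY']
    congr 1
    exact Fintype.sum_equiv (Equiv.neg _) _ _ fun i => by simp
  set n : ℚ := (m : ℚ) with hn
  have hn0 : n ≠ 0 := Nat.cast_ne_zero.2 (NeZero.ne m)
  have hw1w2 : w1 * w2 = (μ / 2) • allOnes := by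
    refine smul_right_injective _ (two_ne_zero (α := ℚ)) ?_
    change (2 : ℚ) • (w1 * w2) = (2 : ℚ) • ((μ / 2) • allOnes)
    rw [smul_smul, show (2 : ℚ) * (μ / 2) = μ by ring, two_smul, ← E2, mul_comm w2 w1]
  have hcube : w1 * (w1 * w1) = θ ^ 2 • w1 + (μ * X - μ / 2 * Y) • allOnes := by
    have h' := congrArg (w1 * ·) E1
    simp only [Algebra.smul_def, map_sub, map_mul, map_pow] at h' hw1C hw1w2 htw2C ⊢
    linear_combination h' - tilde w2 * hw1w2 + algebraMap ℚ _ μ * hw1C
      - algebraMap ℚ _ (μ / 2) * htw2C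
  set v := w1 - (X / n) • allOnes with hv
  have hvC : v * allOnes = 0 := by
    rw [hv, sub_mul, smul_mul_assoc, hones, hw1C, smul_smul, div_mul_cancel₀ _ hn0, sub_self]
  have hvv : v * v = w1 * w1 - (X ^ 2 / n) • allOnes := by
    have hf : X ^ 2 / n = (X / n) * X := by ring
    simp only [hf, hv, Algebra.smul_def, map_mul] at hvC hw1C ⊢
    linear_combination (-algebraMap ℚ _ (X / n)) * hw1C + (-algebraMap ℚ _ (X / n)) * hvC
  have hvvv : v * (v * v) = θ ^ 2 • v := by
    set c := μ * X - μ / 2 * Y - X / n * X ^ 2 + θ ^ 2 * (X / n) with hc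
    have h0 : v * (v * v) - θ ^ 2 • v = c • allOnes := by
      rw [hvv]
      simp only [hc, Algebra.smul_def, map_sub, map_add, map_mul, map_pow] at hvC hw1C hcube hv ⊢
      linear_combination (-algebraMap ℚ _ (X ^ 2 / n)) * hvC + hcube
        + (w1 * w1 - algebraMap ℚ _ θ ^ 2) * hv
        - algebraMap ℚ _ (X / n) * w1 * hw1C
        - algebraMap ℚ _ (X / n) * algebraMap ℚ _ X * hw1C
    have h1 := congrArg (· * allOnes) h0
    simp only [sub_mul, mul_assoc, hvC, mul_zero, smul_mul_assoc, smul_zero, sub_zero, hones,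
      smul_smul] at h1
    have h2 := congrArg (fun f : AddMonoidAlgebra ℚ (ZMod m) => f.coeff 0) h1
    simp [hn0] at h2
    rw [h2, zero_smul, sub_eq_zero] at h0
    exact h0
  have hpq : p • q = 0 := hP.order ▸ addOrderOf_nsmul_eq_zero q
  have hp0 : (p : ℚ) ≠ 0 := Nat.cast_ne_zero.2 hP.prime.ne_zero
  set K := subSum p q with hKdef
  have hKK : K * K = (p : ℚ) • K := mul_subSum (subSum_mul_diff hpq)
  have hCK : allOnes * K = (p : ℚ) • allOnes := mul_subSum (allOnes_mul_diff q)
  have hvK : v * K = (p : ℚ) • v := by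
    refine mul_subSum ?_
    rw [hv, sub_mul, hD1, smul_mul_assoc, allOnes_mul_diff, smul_zero, sub_zero]
  set P0 := (p : ℚ)⁻¹ • K - n⁻¹ • allOnes with hP0
  set e := (θ ^ 2)⁻¹ • (v * v) with he
  have hee : e * e = e := by
    rw [he, smul_mul_smul_comm, show v * v * (v * v) = v * (v * (v * v)) by ring, hvvv,
      mul_smul_comm, smul_smul]
    congr 1
    field_simp
  have hePP : e * P0 = e := by
    rw [he, hP0, smul_mul_assoc, mul_sub, mul_smul_comm, mul_smul_comm, mul_assoc, hvK,
      mul_assoc, hvC, mul_zero, smul_zero, sub_zero, mul_smul_comm, smul_smul, smul_smul]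
    congr 1
    field_simp
  have hP0P0 : P0 * P0 = P0 := by
    rw [hP0]
    simp only [sub_mul, mul_sub, smul_mul_smul_comm, hKK, hCK, hones, mul_comm K allOnes, smul_smul]
    have e1 : (p : ℚ)⁻¹ * (p : ℚ)⁻¹ * p = (p : ℚ)⁻¹ := by field_simp
    have e2 : (p : ℚ)⁻¹ * n⁻¹ * p = n⁻¹ := by field_simp
    have e3 : n⁻¹ * (p : ℚ)⁻¹ * p = n⁻¹ := by field_simp
    have e4 : n⁻¹ * n⁻¹ * n = n⁻¹ := by field_simp
    rw [e1, e2, e3, e4, sub_self, sub_zero]
  set d := P0 - e with hd
  have hdd : d * d = d := by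
    rw [hd]; linear_combination hP0P0 - 2 * hePP + hee
  have htilde : tilde d = d := by
    have hC : tilde (allOnes (R := ℚ) (m := m)) = allOnes := by ext i; simp
    rw [hd, hP0, he, hv, map_sub, map_sub, tilde_smul, tilde_smul, tilde_smul, map_mul,
      map_sub, tilde_smul, hC, tilde_subSum hP.prime.ne_zero hpq, hw1, tilde_cS]
  have hd0 : 0 ≤ d.coeff 0 := by
    rw [← hdd, rot_mul_coeff]
    refine Finset.sum_nonneg fun i _ => ?_
    rw [zero_sub, ← tilde_coeff, htilde]
    exact mul_self_nonneg _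
  have hv0 : (v * v).coeff 0 = X - X ^ 2 / n := by
    rw [hvv, AddMonoidAlgebra.coeff_sub, Finsupp.sub_apply, AddMonoidAlgebra.coeff_smul,
      Finsupp.smul_apply, allOnes_coeff, rot_mul_coeff, smul_eq_mul, mul_one]
    congr 1
    rw [← hX']
    refine Finset.sum_congr rfl fun i _ => ?_
    rw [zero_sub, ← tilde_coeff, hw1, tilde_cS, ← hw1, hw1c]
    split_ifs <;> norm_num
  have hin : (p : ℚ) * (X * (n - X)) ≤ θ ^ 2 * (n - p) := by
    rw [hd, hP0, he] at hd0
    simp only [AddMonoidAlgebra.coeff_sub, Finsupp.sub_apply, AddMonoidAlgebra.coeff_smul,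
      Finsupp.smul_apply, allOnes_coeff, hv0, smul_eq_mul, hKdef,
      subSum_coeff_zero hP.prime.pos hP.order] at hd0
    have hθ2 : 0 < θ ^ 2 := by positivity
    have hn1 : 0 < n := lt_of_le_of_ne (by rw [hn]; positivity) hn0.symm
    have hp1 : (0 : ℚ) < p := by exact_mod_cast hP.prime.pos
    field_simp at hd0
    rw [zero_mul, zero_mul, le_div_iff₀ hθ2, zero_mul] at hd0
    linarith
  -- pass to integers
  set θZ : ℤ := epsS (ind ℤ hW.1) with hθZ
  have hθc : θ = (θZ : ℚ) := theta_eq_intCast hW.1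
  set μZ : ℤ := co T (r q) with hμZ
  have hμc : μ = (μZ : ℚ) := hTw _
  have ek : (S1.card : ℤ) + S2.card = θZ ^ 2 + μZ := by
    have : X + Y = θ ^ 2 + μ := by linarith
    rw [hX, hY, hθc, hμc] at this
    exact_mod_cast this
  have eθ : θZ = (S1.card : ℤ) - S2.card := by
    rw [hX, hY, hθc] at hθXY
    exact_mod_cast hθXY
  have exy : 2 * (S1.card : ℤ) * S2.card = μZ * m := by
    rw [hX, hY, hμc, hn] at hxy
    exact_mod_cast hxy
  have ein : (p : ℤ) * ((S1.card : ℤ) * (m - S1.card)) ≤ θZ ^ 2 * ((m : ℤ) - p) := by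
    rw [hX, hθc, hn] at hin
    exact_mod_cast hin
  have hx0 : 0 < S1.card := by
    obtain ⟨i, hi⟩ := exists_r_mem hW.1 hne
    exact Finset.card_pos.2 ⟨i, Finset.mem_filter.2 ⟨Finset.mem_univ _, hi⟩⟩
  have hy0 : 0 < S2.card := by
    obtain ⟨i, hi⟩ := exists_sr_mem hW.1 (mem_atom h) hh1
    exact Finset.card_pos.2 ⟨i, Finset.mem_filter.2 ⟨Finset.mem_univ _, hi⟩⟩
  have hym : S2.card ≤ m := (Finset.card_le_univ _).trans (ZMod.card m).le
  have hxm : S1.card + p ≤ m := by
    have hd : Disjoint S1 (Finset.univ.filter fun i : ZMod m => p • i = 0) := by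
      rw [Finset.disjoint_left]
      intro i hi hi'
      have h2 := (Finset.mem_filter.1 hi).2
      rcases eq_or_ne i 0 with rfl | hi0
      · exact h1 (r_zero (n := m) ▸ h2)
      · exact hqW ((ratSet_order hW.2 (show addOrderOf i = addOrderOf q by
          rw [hP.order]; exact addOrderOf_eq_prime (Finset.mem_filter.1 hi').2 hi0)).1 h2)
    have := Finset.card_union_of_disjoint hd
    rw [card_fiber hP.prime hP.order (x := 0) (z := 0) (smul_zero p)] at this
    rw [← this]
    exact (Finset.card_le_univ _).trans (ZMod.card m).le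
  rcases eq_or_ne p 2 with rfl | hodd
  · obtain ⟨a, ha⟩ := hcase.resolve_left (fun h => h rfl)
    have hw1p : ∀ i, r (i + q) ∈ W ↔ r i ∈ W := fun i => by
      have := (mul_diff_eq_zero_iff q w1).1 hD1 i
      rw [hw1c, hw1c] at this
      by_cases h₁ : r (i + q) ∈ W <;> by_cases h₂ : r i ∈ W <;> simp [h₁, h₂] at this ⊢
    have hq2 : q + q = 0 := by rw [← two_nsmul]; exact hpq
    have hxe : Even S1.card := by
      rw [even_iff_two_dvd, ← ZMod.natCast_eq_zero_iff, Finset.cast_card]
      refine Finset.sum_involution (fun i _ => i + q) (fun i _ => CharTwo.add_self_eq_zero 1) ?_ ?_ ?_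
      · intro i _ _
        simp [hP.q_ne_zero]
      · intro i hi
        simp only [hS1, Finset.mem_filter, Finset.mem_univ, true_and] at hi ⊢
        exact (hw1p i).2 hi
      · intro i _
        rw [add_assoc, hq2, add_zero]
    obtain ⟨h2y, hθy, h8⟩ := numeric_two a m S1.card S2.card θZ μZ (by rw [ha]; push_cast; rfl)
      (by exact_mod_cast hx0) (by exact_mod_cast hxm) (by exact_mod_cast hxe)
      (by exact_mod_cast hy0) (by exact_mod_cast hym) eθ ek exy (by exact_mod_cast ein)
    have hm2 : m = S2.card + S2.card := by omega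
    have hqn : q = (S2.card : ZMod m) := by
      have hval := ZMod.natCast_zmod_val q
      have h0 : (q.val + q.val) % m = 0 := by
        rw [← ZMod.val_add, hq2, ZMod.val_zero]
      have hlt := ZMod.val_lt q
      have hne0 : q.val ≠ 0 := fun h => hP.q_ne_zero ((ZMod.val_eq_zero q).1 h)
      rw [← hval]
      congr 1
      obtain ⟨c, hc⟩ := Nat.dvd_of_mod_eq_zero h0
      rcases c with _ | _ | c
      · omega
      · omega
      · exfalso; nlinarith
    set s : ZMod m → ℕ := fun i => if sr i ∈ W then 1 else 0 with hs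
    have hac : ∀ z, (tilde w2 * w2).coeff z = ((∑ i, s i * s (z + i) : ℕ) : ℚ) := by
      intro z
      rw [rot_mul_coeff, Nat.cast_sum]
      refine Fintype.sum_equiv (Equiv.neg _) _ _ fun i => ?_
      simp only [tilde_coeff, hw2c, hs, Equiv.neg_apply, ← sub_eq_add_neg]
      split_ifs <;> simp
    set A : ZMod m → ℕ := fun z => ∑ i, s i * s (z + i) with hA
    have hAeq : ∀ z, (A z : ℚ) - A (z - q) =
        θ ^ 2 * (diff q : AddMonoidAlgebra ℚ (ZMod m)).coeff z := by
      intro z
      have := congrArg (fun f : AddMonoidAlgebra ℚ (ZMod m) => f.coeff z) hAC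
      simpa [mul_diff_coeff, hac, hA] using this
    have hsY : ∑ i, s i = S2.card := by simp only [hs, hS2, Finset.card_filter]
    have hA0 : A 0 = S2.card := by
      rw [← hsY, hA]
      refine Finset.sum_congr rfl fun i _ => ?_
      simp only [hs, zero_add]
      split_ifs <;> rfl
    have hnegq : -q = q := neg_eq_of_add_eq_zero_right hq2
    have hAq : A q = 0 := by
      have h' := hAeq q
      rw [sub_self, hA0] at h'
      simp [diff, AddMonoidAlgebra.one_def, Finsupp.single_apply, hP.q_ne_zero.symm] at h'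
      have hθq : θ ^ 2 = (S2.card : ℚ) := by rw [hθc]; exact_mod_cast hθy
      have : (A q : ℚ) = 0 := by linarith
      exact_mod_cast this
    have hpair : ∀ i, s i + s (i + q) = 1 := by
      have hle : ∀ i, s i + s (i + q) ≤ 1 := by
        intro i
        have h' := (Finset.sum_eq_zero_iff.1 hAq) i (Finset.mem_univ i)
        rw [add_comm q i] at h'
        simp only [hs] at h' ⊢
        split_ifs at h' ⊢ <;> omega
      intro i
      have hsum : ∑ i, (s i + s (i + q)) = ∑ _i : ZMod m, 1 := by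
        rw [Finset.sum_add_distrib, Finset.sum_const, Finset.card_univ, ZMod.card, hsY,
          Fintype.sum_equiv (Equiv.addRight q) (fun i => s (i + q)) s fun _ => rfl, hsY,
          smul_eq_mul, mul_one, ← hm2]
      exact (Finset.sum_eq_sum_iff_of_le fun i _ => hle i).1 hsum i (Finset.mem_univ i)
    have hY4 : 4 ≤ S2.card := by
      obtain ⟨c, hc⟩ := h8
      omega
    have hA1 : A 1 + A (1 + q) = S2.card := by
      rw [← hsY, hA, ← Finset.sum_add_distrib]
      refine Finset.sum_congr rfl fun i _ => ?_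
      rw [← mul_add, show 1 + q + i = 1 + i + q by ring, hpair, mul_one]
    have h1q : A 1 = A (1 + q) := by
      have h' := hAeq 1
      rw [sub_eq_add_neg (1 : ZMod m) q, hnegq] at h'
      have hm1 : ((1 : ℕ) : ZMod m) ≠ 0 := fun e => by
        rw [ZMod.natCast_eq_zero_iff, Nat.dvd_one] at e; omega
      have hm3 : (q : ZMod m) ≠ 1 := fun e => by
        rw [hqn] at e
        have := congrArg ZMod.val e
        rw [ZMod.val_natCast_of_lt (by omega), ← Nat.cast_one, ZMod.val_natCast_of_lt (by omega)] at this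
        omega
      rw [Nat.cast_one] at hm1
      simp [diff, AddMonoidAlgebra.one_def, Finsupp.single_apply, hm3, hm1.symm] at h'
      exact_mod_cast (by linarith : (A 1 : ℚ) = A (1 + q))
    refine antiperiodic_parity S2.card (A 1) (fun j => s (j : ZMod m)) (fun j => ?_) ?_ ?_ ?_
    · simp only [Nat.cast_add, ← hqn, hpair]
    · simp only [hA, sum_zmod_eq_range, ← hm2, Nat.cast_add, Nat.cast_one, add_comm (1 : ZMod m)]
    · omega
    · obtain ⟨c, hc⟩ := h8
      rw [Nat.even_iff]
      omega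
  · have hp3 : 3 ≤ p := by have := hP.prime.two_le; omega
    refine numeric_odd p m S1.card S2.card θZ μZ (by exact_mod_cast hp3) (by positivity)
      (by positivity) (by exact_mod_cast (show S1.card ≤ m by omega)) (by exact_mod_cast hym)
      eθ ?_ ek exy ein
    have := Fact.mk hP.prime
    refine Int.le_of_dvd (abs_pos.2 ?_) ((dvd_abs _ _).2 (dvd_epsS hodd hP.order hW h1 hqW))
    intro h0
    exact hθ0 (by rw [hθc, h0, Int.cast_zero])

end CfsgLib.DihedralB
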