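import Cfsg.Agent.DihedralB.Weight

/-!
# Reflection parts of the atoms

For an invariant set `W` away from the subgroup of order `p` the autocorrelation of the reflection
part is `θ ^ 2` at the origin, modulo periodic elements, where `θ` is the signed size of `W`.
-/

set_option autoImplicit false

open MulAction DihedralGroup
open CfsgLib.SchurRing (IsTranslating IsInvariant)

namespace CfsgLib.DihedralB

variable {m : ℕ} [NeZero m]

section Rot

variable {R : Type*} [CommRing R]

/-- The sum of all elements of `ZMod m`. -/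
noncomputable def allOnes : AddMonoidAlgebra R (ZMod m) :=
  AddMonoidAlgebra.ofCoeff (Finsupp.equivFunOnFinite.symm fun _ => 1)

@[simp] theorem allOnes_coeff (i : ZMod m) : (allOnes (R := R)).coeff i = 1 := by simp [allOnes]

theorem rot_mul_coeff (f g : AddMonoidAlgebra R (ZMod m)) (z : ZMod m) :
    (f * g).coeff z = ∑ i, f.coeff i * g.coeff (z - i) := by
  classical
  induction f using AddMonoidAlgebra.induction_linear with
  | zero => simp
  | add a b ha hb => simp [add_mul, ha, hb, Finset.sum_add_distrib]
  | single j a =>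
    induction g using AddMonoidAlgebra.induction_linear with
    | zero => simp
    | add c d hc hd => simp [mul_add, hc, hd, Finset.sum_add_distrib]
    | single k b =>
      rw [AddMonoidAlgebra.single_mul_single, Finset.sum_eq_single j]
      · simp only [AddMonoidAlgebra.coeff_single, Finsupp.single_apply, eq_sub_iff_add_eq,
          add_comm j k, if_true, mul_ite, mul_zero]
      · intro i _ hi
        simp [Finsupp.single_apply, Ne.symm hi]
      · simp

theorem mul_allOnes (f : AddMonoidAlgebra R (ZMod m)) :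
    f * allOnes = (∑ i, f.coeff i) • allOnes := by
  ext z
  simp [rot_mul_coeff]

theorem allOnes_mul_diff (q : ZMod m) : allOnes (R := R) * diff q = 0 :=
  (mul_diff_eq_zero_iff q _).2 fun x => by simp

theorem tilde_smul (a : R) (f : AddMonoidAlgebra R (ZMod m)) : tilde (a • f) = a • tilde f := by
  induction f using AddMonoidAlgebra.induction_linear with
  | zero => simp
  | add x y hx hy => simp [smul_add, hx, hy]
  | single i b => rw [AddMonoidAlgebra.smul_single, tilde_single, tilde_single, AddMonoidAlgebra.smul_single]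

theorem sum_dihedral {M : Type*} [AddCommMonoid M] (F : DihedralGroup m → M) :
    ∑ h, F h = (∑ i, F (r i)) + ∑ i, F (sr i) := by
  have hinj1 : Function.Injective (r : ZMod m → DihedralGroup m) := fun a b h => DihedralGroup.r.inj h
  have hinj2 : Function.Injective (sr : ZMod m → DihedralGroup m) := fun a b h =>
    DihedralGroup.sr.inj h
  classical
  rw [← Finset.sum_image (g := r) (fun a _ b _ h => hinj1 h),
    ← Finset.sum_image (g := sr) (fun a _ b _ h => hinj2 h), ← Finset.sum_union]
  · refine (Finset.sum_congr ?_ fun _ _ => rfl).symm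
    ext (i | i) <;> simp
  · rw [Finset.disjoint_left]
    intro a ha hb
    obtain ⟨i, -, rfl⟩ := Finset.mem_image.1 ha
    obtain ⟨j, -, hj⟩ := Finset.mem_image.1 hb
    cases hj

end Rot

variable {G : Type*} [Group G] [MulAction G (DihedralGroup m)] [DihAct G m]

theorem fmap_eq_zero {R R' : Type*} [CommRing R] [CommRing R'] {φ : R →+* R'}
    (hφ : Function.Injective φ) {U V : fixedAlg m G R} (h : fmap φ U = fmap φ V) : U = V :=
  co_ext fun x => hφ (by rw [← co_fmap, ← co_fmap, h])

theorem cS_ind_univ (R : Type*) [CommRing R] :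
    cS (ind R (G := G) (X := (Set.univ : Set (DihedralGroup m))) isRI_univ.1) = allOnes := by
  classical
  ext i
  rw [cS_coeff, co_ind, allOnes_coeff, if_pos (Set.mem_univ _)]

theorem bS_ind_univ (R : Type*) [CommRing R] :
    bS (ind R (G := G) (X := (Set.univ : Set (DihedralGroup m))) isRI_univ.1) = allOnes := by
  classical
  ext i
  rw [bS_coeff, co_ind, allOnes_coeff, if_pos (Set.mem_univ _)]

theorem empty_or_univ_of_diff {p : ℕ} {q : ZMod m} (hP : Periodic G p q) {R : Type*} [CommRing R]
    [Nontrivial R] {X : Set (DihedralGroup m)} (hX : IsInvariant G X)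
    (hc : cS (ind R hX) * diff q = 0) (hb : bS (ind R hX) * diff q = 0) :
    X = ∅ ∨ X = Set.univ := by
  classical
  rw [mul_diff_eq_zero_iff] at hc hb
  refine periodic_invariant hX hP.q_ne_zero (fun i hi => ?_) fun i hi => ?_
  · have := hc i
    rw [cS_coeff, cS_coeff, co_ind, co_ind, if_pos hi] at this
    by_contra hne
    rw [if_neg hne] at this
    exact zero_ne_one this
  · have := hb (i - q)
    rw [sub_add_cancel, bS_coeff, bS_coeff, co_ind, co_ind, if_pos hi] at this
    by_contra hne
    rw [if_neg hne] at this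
    exact one_ne_zero this

/-- The reflection part of a non-empty set without `1` and `r q` is not periodic. -/
theorem bS_diff_ne_zero {p : ℕ} {q : ZMod m} (hP : Periodic G p q) {W : Set (DihedralGroup m)}
    (hW : IsRI G W) (h1 : (1 : DihedralGroup m) ∉ W) (hq : r q ∉ W) (hne : W.Nonempty)
    (R : Type*) [CommRing R] [Nontrivial R] : bS (ind R hW.1) * diff q ≠ 0 := by
  classical
  intro hb
  have hc : cS (ind R hW.1) * diff q = 0 := by
    rw [cS_mul_diff hP (ratFun_ind R hW.1 hW.2), co_ind, co_ind, if_neg h1, if_neg hq, sub_self,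
      zero_smul]
  rcases empty_or_univ_of_diff hP hW.1 hc hb with h | h
  · exact hne.ne_empty h
  · exact h1 (h ▸ Set.mem_univ _)

section Theta

variable [Finite G] {p : ℕ} {q : ZMod m}

/-- The signed size of an invariant set. -/
noncomputable def theta {W : Set (DihedralGroup m)} (hW : IsInvariant G W) : ℚ :=
  epsS (ind ℚ hW)

theorem theta_eq_intCast {W : Set (DihedralGroup m)} (hW : IsInvariant G W) :
    theta hW = ((epsS (ind ℤ hW) : ℤ) : ℚ) := by
  rw [theta, ← fmap_ind (Int.castRingHom ℚ) hW, epsS_fmap]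
  rfl

variable (G) in
/-- `1 - weight (r q)`. -/
noncomputable def alpha (q : ZMod m) : ℚ := 1 - co (weight (G := G)) (r q)

theorem alpha_ne_zero (hP : Periodic G p q) : alpha G q ≠ 0 := fun h =>
  co_weight_r_ne_one hP.q_ne_zero (sub_eq_zero.1 h).symm

theorem cS_weight_mul_diff (hP : Periodic G p q) :
    cS (weight (G := G)) * diff q = alpha G q • diff q := by
  rw [cS_mul_diff hP ratFun_weight, co_weight_one]
  rfl

open Classical in
theorem main_eq (hP : Periodic G p q) {W : Set (DihedralGroup m)} (hW : IsRI G W)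
    (h1 : (1 : DihedralGroup m) ∉ W) :
    alpha G q • (bS (ind ℚ hW.1) * diff q) =
      (theta hW.1 + if r q ∈ W then 1 else 0) • (bS (weight (G := G)) * diff q) := by
  have h := congrArg bS (weight_mul (G := G) (ind ℚ hW.1))
  rw [bS_mul, map_smul, ← theta] at h
  have hd : cS (ind ℚ hW.1) * diff q = -(if r q ∈ W then (1 : ℚ) else 0) • diff q := by
    rw [cS_mul_diff hP (ratFun_ind ℚ hW.1 hW.2), co_ind, co_ind, if_neg h1, zero_sub]
  have hc := cS_weight_mul_diff (G := G) hP
  have h' := congrArg (· * diff q) h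
  simp only [Algebra.smul_def] at hc hd h' ⊢
  simp only [map_add, map_neg] at hd ⊢
  linear_combination h' - bS (ind ℚ hW.1) * hc - bS (weight (G := G)) * hd

theorem epsS_weight_eq (hP : Periodic G p q) (hη : bS (weight (G := G)) * diff q ≠ 0) :
    epsS (weight (G := G) (m := m)) = 2 * alpha G q := by
  have h := congrArg bS (weight_mul (G := G) (m := m) weight)
  rw [bS_mul, map_smul] at h
  have hc := cS_weight_mul_diff (G := G) hP
  have h' := congrArg (· * diff q) h
  have : (2 * alpha G q - epsS (weight (G := G) (m := m))) •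
      (bS (weight (G := G)) * diff q) = 0 := by
    simp only [Algebra.smul_def] at hc h' ⊢
    simp only [map_sub, map_mul, map_ofNat]
    linear_combination h' - 2 * bS (weight (G := G)) * hc
  rcases smul_eq_zero.1 this with h0 | h0
  · linarith
  · exact absurd h0 hη

theorem tilde_weight_mul (hP : Periodic G p q) (hη : bS (weight (G := G)) * diff q ≠ 0) :
    tilde (bS (weight (G := G))) * bS (weight (G := G)) * diff q = alpha G q ^ 2 • diff q := by
  have h := congrArg cS (weight_mul (G := G) (m := m) weight)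
  rw [cS_mul, map_smul, epsS_weight_eq hP hη] at h
  have hc := cS_weight_mul_diff (G := G) hP
  have h' := congrArg (· * diff q) h
  simp only [Algebra.smul_def, map_mul, map_ofNat, map_pow] at hc h' ⊢
  linear_combination h' + (algebraMap ℚ _ (alpha G q) - cS (weight (G := G))) * hc

/-- The reflection part of a non-empty set without `1` and `r q`. -/
theorem eta_ne_zero (hP : Periodic G p q) {W : Set (DihedralGroup m)}
    (hW : IsRI G W) (h1 : (1 : DihedralGroup m) ∉ W) (hq : r q ∉ W) (hne : W.Nonempty) :
    theta hW.1 ≠ 0 ∧ bS (weight (G := G)) * diff q ≠ 0 := by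
  classical
  have h := main_eq hP hW h1
  rw [if_neg hq, add_zero] at h
  have hl : alpha G q • (bS (ind ℚ hW.1) * diff q) ≠ 0 :=
    smul_ne_zero (alpha_ne_zero hP) (bS_diff_ne_zero hP hW h1 hq hne ℚ)
  rw [h] at hl
  exact ⟨fun h0 => hl (by rw [h0, zero_smul]), fun h0 => hl (by rw [h0, smul_zero])⟩

/-- Modulo periodic elements the reflection part of `W` has autocorrelation `θ ^ 2`. -/
theorem autocorr (hP : Periodic G p q) {W : Set (DihedralGroup m)}
    (hW : IsRI G W) (h1 : (1 : DihedralGroup m) ∉ W) (hq : r q ∉ W) (hne : W.Nonempty) :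
    tilde (bS (ind ℚ hW.1)) * bS (ind ℚ hW.1) * diff q = theta hW.1 ^ 2 • diff q := by
  classical
  obtain ⟨-, hη⟩ := eta_ne_zero hP hW h1 hq hne
  have h := main_eq hP hW h1
  rw [if_neg hq, add_zero] at h
  set w := bS (ind ℚ hW.1)
  set d := bS (weight (G := G) (m := m))
  have h2 : (alpha G q • w - theta hW.1 • d) * diff q = 0 := by
    rw [sub_mul, smul_mul_assoc, smul_mul_assoc, h, sub_self]
  have h3 := tilde_mul_diff q h2
  rw [map_sub, tilde_smul, tilde_smul] at h3
  have h4 := tilde_weight_mul hP hη
  refine smul_right_injective _ (pow_ne_zero 2 (alpha_ne_zero (G := G) hP)) ?_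
  simp only [Algebra.smul_def, map_pow] at h2 h3 h4 ⊢
  linear_combination algebraMap ℚ _ (alpha G q) * tilde w * h2
    + algebraMap ℚ _ (theta hW.1) * d * h3 + algebraMap ℚ _ (theta hW.1) ^ 2 * h4

/-- Two disjoint sets away from the subgroup of order `p` have opposite signed sizes. -/
theorem theta_eq_neg (hP : Periodic G p q) {W W' : Set (DihedralGroup m)}
    (hW : IsRI G W) (h1 : (1 : DihedralGroup m) ∉ W) (hq : r q ∉ W) (hne : W.Nonempty)
    (hW' : IsRI G W') (h1' : (1 : DihedralGroup m) ∉ W') (hq' : r q ∉ W') (hne' : W'.Nonempty)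
    (hdisj : Disjoint W W') : theta hW'.1 = -theta hW.1 := by
  classical
  obtain ⟨hθ, hη⟩ := eta_ne_zero hP hW h1 hq hne
  obtain ⟨hθ', -⟩ := eta_ne_zero hP hW' h1' hq' hne'
  have h := main_eq hP hW h1
  have h' := main_eq hP hW' h1'
  rw [if_neg hq, add_zero] at h
  rw [if_neg hq', add_zero] at h'
  obtain ⟨x, hx⟩ : ∃ x, (bS (weight (G := G)) * diff q).coeff x ≠ 0 := by
    by_contra! h0
    exact hη (by ext x; simpa using h0 x)
  have e := congrArg (fun f : AddMonoidAlgebra ℚ (ZMod m) => f.coeff x) h
  have e' := congrArg (fun f : AddMonoidAlgebra ℚ (ZMod m) => f.coeff x) h'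
  simp only [AddMonoidAlgebra.coeff_smul, Finsupp.smul_apply, smul_eq_mul] at e e'
  have e1 : alpha G q * (theta hW'.1 * (bS (ind ℚ hW.1) * diff q).coeff x) =
      alpha G q * (theta hW.1 * (bS (ind ℚ hW'.1) * diff q).coeff x) := by
    linear_combination theta hW'.1 * e - theta hW.1 * e'
  have e2 := mul_left_cancel₀ (alpha_ne_zero hP) e1
  have hΔ : (bS (ind ℚ hW.1) * diff q).coeff x ≠ 0 := fun h0 => by
    rw [h0, mul_zero] at e
    exact mul_ne_zero hθ hx e.symm
  have hΔ' : (bS (ind ℚ hW'.1) * diff q).coeff x ≠ 0 := fun h0 => by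
    rw [h0, mul_zero] at e'
    exact mul_ne_zero hθ' hx e'.symm
  rw [mul_diff_coeff, bS_coeff, bS_coeff, co_ind, co_ind] at e2 hΔ hΔ'
  rw [mul_diff_coeff, bS_coeff, bS_coeff, co_ind, co_ind] at e2
  have hd : ∀ z, z ∈ W → z ∉ W' := fun z hz => Set.disjoint_left.1 hdisj hz
  by_cases a : sr x ∈ W <;> by_cases b : sr (x - q) ∈ W <;> by_cases c : sr x ∈ W' <;>
    by_cases d : sr (x - q) ∈ W' <;> simp [a, b, c, d] at e2 hΔ hΔ' ⊢ <;>
    first
      | exact absurd c (hd _ a)
      | exact absurd d (hd _ b)
      | linarith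

end Theta

end CfsgLib.DihedralB
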