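import Cfsg.Agent.DihedralB.Lifting

/-!
# The orbit average of the sign character, and atoms

`weight` is the average of the sign character over the orbits of the stabiliser of `1`.  It is a
scalar multiple of an idempotent of the Schur ring, so its rotation part is invariant under the
multipliers.  For a prime `p` dividing `m` the invariant sets with multiplier-invariant rotation
part are periodic outside the subgroup of order `p`.
-/

set_option autoImplicit false

open MulAction DihedralGroup
open CfsgLib.SchurRing (IsTranslating IsInvariant)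

namespace CfsgLib.DihedralB

variable {m : ℕ} [NeZero m]

section Rot

variable {R : Type*} [CommRing R]

/-- `1 - X ^ q`. -/
noncomputable def diff (q : ZMod m) : AddMonoidAlgebra R (ZMod m) :=
  1 - AddMonoidAlgebra.single q 1

omit [NeZero m] in
theorem mul_diff_coeff (q : ZMod m) (f : AddMonoidAlgebra R (ZMod m)) (x : ZMod m) :
    (f * diff q).coeff x = f.coeff x - f.coeff (x - q) := by
  classical
  induction f using AddMonoidAlgebra.induction_linear with
  | zero => simp
  | add a b ha hb => simp only [add_mul, AddMonoidAlgebra.coeff_add, Finsupp.add_apply, ha, hb]; ring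
  | single i a =>
    rw [diff, mul_sub, mul_one, AddMonoidAlgebra.single_mul_single, mul_one]
    simp [Finsupp.single_apply, eq_sub_iff_add_eq]

omit [NeZero m] in
theorem mul_diff_eq_zero_iff (q : ZMod m) (f : AddMonoidAlgebra R (ZMod m)) :
    f * diff q = 0 ↔ ∀ x, f.coeff (x + q) = f.coeff x := by
  constructor
  · intro h x
    have := congrArg (fun g : AddMonoidAlgebra R (ZMod m) => g.coeff (x + q)) h
    simpa [mul_diff_coeff, sub_eq_zero] using this
  · intro h
    ext x
    rw [mul_diff_coeff, show f.coeff x = f.coeff (x - q) by rw [← h (x - q), sub_add_cancel],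
      sub_self]
    rfl

theorem diff_ne_zero [Nontrivial R] {q : ZMod m} (hq : q ≠ 0) :
    diff (R := R) q ≠ 0 := by
  classical
  intro h
  have := congrArg (fun g : AddMonoidAlgebra R (ZMod m) => g.coeff 0) h
  simp [diff, AddMonoidAlgebra.one_def, Finsupp.single_apply, hq] at this

theorem tilde_tilde (f : AddMonoidAlgebra R (ZMod m)) : tilde (tilde f) = f := by
  ext
  simp

omit [NeZero m] in
theorem tilde_mul_diff [NeZero m] (q : ZMod m) {f : AddMonoidAlgebra R (ZMod m)}
    (h : f * diff q = 0) : tilde f * diff q = 0 := by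
  rw [mul_diff_eq_zero_iff] at h ⊢
  intro x
  rw [tilde_coeff, tilde_coeff]
  conv_rhs => rw [show -x = -(x + q) + q by abel, h]

theorem piP_comm (a b : ℕ) (f : AddMonoidAlgebra R (ZMod m)) :
    piP a (piP b f) = piP b (piP a f) := by
  induction f using AddMonoidAlgebra.induction_linear with
  | zero => simp
  | add x y hx hy => simp [hx, hy]
  | single i a' => simp only [piP_single, smul_comm a b]

end Rot

section Fiber

variable {p : ℕ}

omit [NeZero m] in
/-- If `p` divides the order of `p • x` then `x + t` has the order of `x` when `p • t = 0`. -/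
theorem addOrderOf_add_eq [NeZero m] (hp : p.Prime) {x t : ZMod m}
    (hx : p ∣ addOrderOf (p • x)) (ht : p • t = 0) : addOrderOf (x + t) = addOrderOf x := by
  have key : ∀ y : ZMod m, p ∣ addOrderOf (p • y) →
      addOrderOf y = p * addOrderOf (p • y) := by
    intro y hy
    have h1 : addOrderOf (p • y) ∣ addOrderOf y := addOrderOf_dvd_of_nsmul_eq_zero
      (by rw [smul_comm, addOrderOf_nsmul_eq_zero, smul_zero])
    have h2 := (isOfFinAddOrder_of_finite y).addOrderOf_nsmul (n := p)
    rw [Nat.gcd_eq_right (hy.trans h1)] at h2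
    rw [h2, Nat.mul_div_cancel' (hy.trans h1)]
  have h3 : p • (x + t) = p • x := by rw [smul_add, ht, add_zero]
  rw [key x hx, key (x + t) (by rwa [h3]), h3]

theorem card_fiber (hp : p.Prime) {q : ZMod m} (hq : addOrderOf q = p) {x z : ZMod m}
    (hx : p • x = z) : (Finset.univ.filter fun y : ZMod m => p • y = z).card = p := by
  have hker : (Finset.univ.filter fun y : ZMod m => p • y = 0).card = p := by
    refine le_antisymm (IsAddCyclic.card_nsmul_eq_zero_le hp.pos) ?_
    calc p = ((Finset.range p).image fun k : ℕ => k • q).card := by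
          rw [Finset.card_image_of_injOn, Finset.card_range]
          intro a ha b hb hab
          simp only [Finset.coe_range, Set.mem_Iio] at ha hb
          exact nsmul_injOn_Iio_addOrderOf (by rwa [hq]) (by rwa [hq]) hab
      _ ≤ _ := Finset.card_le_card fun y hy => by
          obtain ⟨k, _, rfl⟩ := Finset.mem_image.1 hy
          refine Finset.mem_filter.2 ⟨Finset.mem_univ _, ?_⟩
          rw [smul_comm, ← hq, addOrderOf_nsmul_eq_zero, smul_zero]
  refine (Finset.card_equiv (Equiv.subRight x) fun y => ?_).trans hker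
  simp only [Finset.mem_filter, Finset.mem_univ, true_and, Equiv.subRight_apply, smul_sub, hx,
    sub_eq_zero]

end Fiber

variable {G : Type*} [Group G] [MulAction G (DihedralGroup m)] [DihAct G m]

section Weight

variable [Finite G]

/-- The average of the sign over the orbit of `h` under the stabiliser of `1`. -/
noncomputable def avgSgn (G : Type*) [Group G] [MulAction G (DihedralGroup m)] [Finite G]
    (h : DihedralGroup m) : ℚ :=
  haveI := Fintype.ofFinite (stabilizer G (1 : DihedralGroup m))
  (∑ g : stabilizer G (1 : DihedralGroup m), sgn ((g : G) • h)) /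
    Fintype.card (stabilizer G (1 : DihedralGroup m))

/-- `avgSgn` as an element of the Schur ring. -/
noncomputable def weight : fixedAlg m G ℚ :=
  ofFun (avgSgn G) fun g hg h => by
    letI := Fintype.ofFinite (stabilizer G (1 : DihedralGroup m))
    unfold avgSgn
    congr 1
    exact Fintype.sum_equiv (Equiv.mulRight ⟨g, hg⟩) _ _ fun a => by simp [mul_smul]

theorem co_weight (h : DihedralGroup m) : co (weight (G := G)) h = avgSgn G h := co_ofFun _ _ h

theorem co_weight_one : co (weight (G := G)) (1 : DihedralGroup m) = 1 := by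
  letI := Fintype.ofFinite (stabilizer G (1 : DihedralGroup m))
  rw [co_weight, avgSgn]
  have h1 : ∀ g : stabilizer G (1 : DihedralGroup m),
      sgn (R := ℚ) ((g : G) • (1 : DihedralGroup m)) = 1 := fun g => by
    rw [mem_stabilizer_iff.1 g.2, map_one]
  simp only [h1]
  rw [Finset.sum_const, Finset.card_univ, nsmul_one, div_self]
  exact_mod_cast Fintype.card_ne_zero

/-- The pairing with the weight is the twisted augmentation. -/
theorem sum_mul_weight (U : fixedAlg m G ℚ) :
    ∑ h, co U h * co (weight (G := G)) h = epsS U := by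
  letI := Fintype.ofFinite (stabilizer G (1 : DihedralGroup m))
  simp_rw [co_weight, avgSgn, mul_div_assoc', Finset.mul_sum, ← Finset.sum_div]
  rw [Finset.sum_comm, div_eq_iff (by exact_mod_cast Fintype.card_ne_zero), epsS_apply,
    mul_comm, ← nsmul_eq_mul, ← Finset.card_univ, ← Finset.sum_const]
  refine Finset.sum_congr rfl fun g _ => ?_
  exact Fintype.sum_equiv (MulAction.toPerm (g : G)) _ _ fun h => by
    rw [MulAction.toPerm_apply, co_smul_stab U g.2]

theorem weight_mul (K : fixedAlg m G ℚ) : weight * K = epsS K • weight := by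
  set D := weight * K - epsS K • weight with hD
  have h : ∀ V : fixedAlg m G ℚ, co (D * V) 1 = 0 := by
    intro V
    rw [hD, sub_mul, co_sub, smul_mul_assoc, co_smul, mul_assoc, mul_comm weight (K * V),
      mul_comm weight V, co_mul_one, co_mul_one, sum_mul_weight, sum_mul_weight, map_mul, sub_self]
  refine sub_eq_zero.1 (co_ext fun x => ?_)
  have h2 := h D
  rw [co_mul_one, Finset.sum_eq_zero_iff_of_nonneg fun i _ => mul_self_nonneg _] at h2
  exact mul_self_eq_zero.1 (h2 x (Finset.mem_univ x))

theorem epsS_weight_pos : 0 < epsS (weight (G := G) (m := m)) := by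
  rw [← sum_mul_weight]
  refine lt_of_lt_of_le ?_ (Finset.single_le_sum (fun i _ => mul_self_nonneg _)
    (Finset.mem_univ (1 : DihedralGroup m)))
  rw [co_weight_one]
  norm_num

theorem co_weight_r_ne_one {i : ZMod m} (hi : i ≠ 0) :
    co (weight (G := G)) (r i) ≠ 1 := by
  letI := Fintype.ofFinite (stabilizer G (1 : DihedralGroup m))
  intro h
  have hri : (r i : DihedralGroup m) ≠ 1 := fun e => hi (by
    rw [DihedralGroup.one_def] at e; exact DihedralGroup.r.inj e)
  rw [co_weight, avgSgn, div_eq_one_iff_eq (by exact_mod_cast Fintype.card_ne_zero)] at h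
  obtain ⟨j, g, hg⟩ := exists_sr_mem (SchurRing.isInvariant_orbit (G := G) (r i))
    (mem_orbit_self _) hri
  have hlt : (∑ g : stabilizer G (1 : DihedralGroup m), sgn (R := ℚ) ((g : G) • r i)) <
      ∑ _g : stabilizer G (1 : DihedralGroup m), (1 : ℚ) := by
    refine Finset.sum_lt_sum (fun g _ => ?_) ⟨g, Finset.mem_univ g, ?_⟩
    · cases (g : G) • (r i : DihedralGroup m) <;> simp
    · have : (g : G) • (r i : DihedralGroup m) = sr j := hg
      rw [this, sgn_sr]
      norm_num
  simp [h] at hlt

end Weight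

/-- A set whose rotation part is invariant under the odd multipliers. -/
def RatSet (X : Set (DihedralGroup m)) : Prop :=
  ∀ q : ℕ, q.Prime → q ≠ 2 → ¬ q ∣ m → ∀ x : ZMod m, r (q • x) ∈ X ↔ r x ∈ X

/-- An element whose rotation part is invariant under the odd multipliers. -/
def RatFun {R : Type*} [CommRing R] (U : fixedAlg m G R) : Prop :=
  ∀ q : ℕ, q.Prime → q ≠ 2 → ¬ q ∣ m → ∀ x : ZMod m, co U (r (q • x)) = co U (r x)

omit [NeZero m] in
theorem ratSet_order [NeZero m] {X : Set (DihedralGroup m)} (hX : RatSet X) {x y : ZMod m}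
    (h : addOrderOf x = addOrderOf y) : r x ∈ X ↔ r y ∈ X :=
  Iff.of_eq (eq_of_addOrderOf_eq (f := fun i => (r i : DihedralGroup m) ∈ X)
    (fun q hq h2 hm i => propext (hX q hq h2 hm i)) h)

theorem ratFun_ind (R : Type*) [CommRing R] {X : Set (DihedralGroup m)} (hX : IsInvariant G X)
    (hr : RatSet X) : RatFun (ind R hX) := by
  intro q hq h2 hm x
  classical
  rw [co_ind, co_ind]
  simp only [hr q hq h2 hm x]

theorem good_ind {R : Type*} [CommRing R] {X : Set (DihedralGroup m)} (hX : IsInvariant G X)
    (hr : RatSet X) {q : ℕ} (hq : q.Prime) (h2 : q ≠ 2) (hm : ¬ q ∣ m) :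
    piP q (cS (ind R hX)) = cS (ind R hX) :=
  piP_eq_of hq (fun x hx => absurd hx (not_dvd_addOrderOf hm x)) fun x _ => by
    rw [cS_coeff, cS_coeff, ratFun_ind R hX hr q hq h2 hm]

theorem ratFun_of_good {R : Type*} [CommRing R] {U : fixedAlg m G R}
    (h : ∀ q : ℕ, q.Prime → q ≠ 2 → ¬ q ∣ m → piP q (cS U) = cS U) : RatFun U :=
  fun q hq h2 hm x => by
    rw [← cS_coeff, ← cS_coeff]
    exact inv_of_piP_eq hq (h q hq h2 hm) (not_dvd_addOrderOf hm x)

theorem ratFun_weight [Finite G] : RatFun (weight (G := G) (m := m)) := by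
  have he := epsS_weight_pos (G := G) (m := m)
  set e0 := epsS (weight (G := G) (m := m)) with he0
  set M : ℕ := ∏ h : DihedralGroup m, (co (weight (G := G)) h / e0 : ℚ).den with hM
  have hM0 : M ≠ 0 := Finset.prod_ne_zero_iff.2 fun h _ => Rat.den_nz _
  have hint : ∀ h : DihedralGroup m,
      ((⌊(M : ℚ) * (co (weight (G := G)) h / e0)⌋ : ℤ) : ℚ) = M * (co (weight (G := G)) h / e0) := by
    intro h
    obtain ⟨c, hc⟩ : (co (weight (G := G)) h / e0 : ℚ).den ∣ M :=
      Finset.dvd_prod_of_mem (fun h => (co (weight (G := G)) h / e0 : ℚ).den) (Finset.mem_univ h)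
    have : (M : ℚ) * (co (weight (G := G)) h / e0) =
        (((co (weight (G := G)) h / e0 : ℚ).num * c : ℤ) : ℚ) := by
      rw [hc, Nat.cast_mul, Int.cast_mul, Int.cast_natCast,
        ← Rat.mul_den_eq_num (co (weight (G := G)) h / e0)]
      ring
    rw [this, Int.floor_intCast]
  set U : fixedAlg m G ℤ := ofFun (fun h => ⌊(M : ℚ) * (co (weight (G := G)) h / e0)⌋)
    (fun g hg h => by simp only [co_smul_stab _ hg]) with hU
  set ι := Int.castRingHom ℚ with hι
  have hcast : fmap ι U = ((M : ℚ) / e0) • weight := co_ext fun h => by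
    rw [co_fmap, hU, co_ofFun, co_smul]
    exact (hint h).trans (by ring)
  have hsq : U * U = (M : ℤ) • U := by
    have hinj : ∀ A B : fixedAlg m G ℤ, fmap ι A = fmap ι B → A = B := fun A B h => co_ext fun x => by
      have := congrArg (fun V => co V x) h
      simpa [hι] using this
    refine hinj _ _ ?_
    rw [map_mul, map_zsmul, hcast, smul_mul_smul_comm, weight_mul, ← he0, smul_smul,
      ← Int.cast_smul_eq_zsmul ℚ, smul_smul]
    congr 1
    field_simp
    push_cast
    ring
  intro q hq h2 hm x
  have := Fact.mk hq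
  have hg := inv_of_piP_eq hq (good_of_sq h2 hm (Int.natCast_ne_zero.2 hM0) hsq)
    (not_dvd_addOrderOf hm x)
  rw [cS_coeff, cS_coeff] at hg
  have hg' := congrArg ι hg
  rw [← co_fmap, ← co_fmap, hcast, co_smul, co_smul] at hg'
  exact mul_left_cancel₀ (div_ne_zero (Nat.cast_ne_zero.2 hM0) he.ne') hg'

/-- Invariant set with multiplier-invariant rotation part. -/
def IsRI (G : Type*) {m : ℕ} [Group G] [MulAction G (DihedralGroup m)]
    (X : Set (DihedralGroup m)) : Prop :=
  IsInvariant G X ∧ RatSet X

/-- The least `IsRI` set containing `h`. -/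
def atom (G : Type*) {m : ℕ} [Group G] [MulAction G (DihedralGroup m)] (h : DihedralGroup m) :
    Set (DihedralGroup m) :=
  ⋂₀ {X | IsRI G X ∧ h ∈ X}

section Atom

omit [NeZero m] [DihAct G m]

theorem mem_atom (h : DihedralGroup m) : h ∈ atom G h := fun _ hX => hX.2

theorem atom_subset {X : Set (DihedralGroup m)} (hX : IsRI G X) {h : DihedralGroup m}
    (hh : h ∈ X) : atom G h ⊆ X :=
  Set.sInter_subset_of_mem ⟨hX, hh⟩

theorem isRI_atom (h : DihedralGroup m) : IsRI G (atom G h) :=
  ⟨fun g hg x hx X hX => hX.1.1 g hg x (hx X hX),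
    fun q hq h2 hm x => ⟨fun hx X hX => (hX.1.2 q hq h2 hm x).1 (hx X hX),
      fun hx X hX => (hX.1.2 q hq h2 hm x).2 (hx X hX)⟩⟩

theorem isRI_sdiff {X Y : Set (DihedralGroup m)} (hX : IsRI G X) (hY : IsRI G Y) :
    IsRI G (X \ Y) :=
  ⟨fun g hg x hx => ⟨hX.1 g hg x hx.1, fun h => hx.2 ((invariant_smul_iff hY.1 hg).1 h)⟩,
    fun q hq h2 hm x => and_congr (hX.2 q hq h2 hm x) (not_congr (hY.2 q hq h2 hm x))⟩

theorem isRI_union {X Y : Set (DihedralGroup m)} (hX : IsRI G X) (hY : IsRI G Y) :
    IsRI G (X ∪ Y) :=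
  ⟨fun g hg x hx => hx.imp (hX.1 g hg x) (hY.1 g hg x),
    fun q hq h2 hm x => or_congr (hX.2 q hq h2 hm x) (hY.2 q hq h2 hm x)⟩

theorem atom_eq {h k : DihedralGroup m} (hk : k ∈ atom G h) : atom G k = atom G h := by
  refine Set.Subset.antisymm (atom_subset (isRI_atom h) hk) ?_
  by_contra hno
  obtain ⟨z, hz, hzk⟩ := Set.not_subset.1 hno
  by_cases hh : h ∈ atom G k
  · exact hzk (atom_subset (isRI_atom k) hh hz)
  · exact ((atom_subset (isRI_sdiff (isRI_atom h) (isRI_atom k)) ⟨mem_atom h, hh⟩) hk).2
      (mem_atom k)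

end Atom

theorem isRI_one : IsRI G ({1} : Set (DihedralGroup m)) := by
  refine ⟨fun g hg x hx => by rw [Set.mem_singleton_iff] at hx ⊢; rwa [smul_eq_one_iff hg], ?_⟩
  intro q hq _ hm x
  simp only [Set.mem_singleton_iff, DihedralGroup.one_def, DihedralGroup.r.injEq]
  exact ⟨fun h => nsmul_injective_of_not_dvd hq hm (h.trans (smul_zero q).symm),
    fun h => by rw [h, smul_zero]⟩

theorem isRI_univ : IsRI G (Set.univ : Set (DihedralGroup m)) :=
  ⟨fun _ _ _ _ => trivial, fun _ _ _ _ _ => Iff.rfl⟩

theorem isRI_compl_one : IsRI G ({1}ᶜ : Set (DihedralGroup m)) := by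
  rw [Set.compl_eq_univ_sdiff]
  exact isRI_sdiff isRI_univ isRI_one

theorem isRI_level {R : Type*} [CommRing R] {U : fixedAlg m G R} (hU : RatFun U) (P : R → Prop) :
    IsRI G {h | h ≠ 1 ∧ P (co U h)} :=
  ⟨isInvariant_level' U P, fun q hq h2 hm x => and_congr
    (not_congr ((isRI_one (G := G)).2 q hq h2 hm x)) (by rw [hU q hq h2 hm x])⟩

theorem one_notMem_atom {h : DihedralGroup m} (hh : h ≠ 1) : (1 : DihedralGroup m) ∉ atom G h :=
  fun h1 => atom_subset (isRI_compl_one (G := G)) hh h1 rfl

/-- Elements with invariant rotation part are constant on atoms. -/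
theorem co_eq_of_mem_atom {R : Type*} [CommRing R] {U : fixedAlg m G R} (hU : RatFun U)
    {h k : DihedralGroup m} (hh : h ≠ 1) (hk : k ∈ atom G h) : co U k = co U h :=
  (atom_subset (isRI_level hU fun a => a = co U h) (h := h) ⟨hh, rfl⟩ hk).2

/-- `q` is an element of order `p` and sets are periodic outside the subgroup it generates. -/
structure Periodic (G : Type*) {m : ℕ} [Group G] [MulAction G (DihedralGroup m)] (p : ℕ)
    (q : ZMod m) : Prop where
  prime : p.Prime
  order : addOrderOf q = p
  per : ∀ W : Set (DihedralGroup m), IsRI G W → (1 : DihedralGroup m) ∉ W →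
    ∀ x : ZMod m, p • x ≠ 0 → (r (x + q) ∈ W ↔ r x ∈ W)

theorem periodic_two {a : ℕ} (hm : m = 2 ^ a) {q : ZMod m} (hq : addOrderOf q = 2) :
    Periodic G 2 q := by
  refine ⟨Nat.prime_two, hq, fun W hW _ x hx => ratSet_order hW.2 (addOrderOf_add_eq Nat.prime_two ?_ ?_)⟩
  · have h1 : addOrderOf (2 • x) ∣ 2 ^ a :=
      hm ▸ addOrderOf_dvd_of_nsmul_eq_zero (by simp)
    obtain ⟨i, -, hi⟩ := (Nat.dvd_prime_pow Nat.prime_two).1 h1
    rw [hi]
    refine dvd_pow_self 2 fun h0 => hx ?_
    rw [← AddMonoid.addOrderOf_eq_one_iff, hi, h0, pow_zero]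
  · rw [← hq, addOrderOf_nsmul_eq_zero]

section Odd

variable {p : ℕ} [hpf : Fact p.Prime]

theorem co_pow_prime (hodd : p ≠ 2) {W : Set (DihedralGroup m)} (hW : IsInvariant G W)
    (z : ZMod m) [DecidablePred (· ∈ W)] :
    co (ind (ZMod p) hW ^ p) (r z) =
      (((Finset.univ.filter fun x : ZMod m => p • x = z).filter fun x => r x ∈ W).card : ZMod p) := by
  classical
  rw [← cS_coeff, cS_pow_prime hodd, piP_coeff]
  simp only [cS_coeff, co_ind]
  rw [Finset.natCast_card_filter]
  exact Finset.sum_congr rfl fun x _ => by split_ifs <;> rfl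

/-- The `p`-th power of an invariant set is supported by `1`. -/
theorem pow_prime_supp (hodd : p ≠ 2) {q : ZMod m} (hq : addOrderOf q = p)
    {W : Set (DihedralGroup m)} (hW : IsRI G W) {z : ZMod m} (hz : z ≠ 0) :
    co (ind (ZMod p) hW.1 ^ p) (r z) = 0 := by
  classical
  set V := ind (ZMod p) hW.1 ^ p with hV
  have hrat : RatFun V := ratFun_of_good fun s hs h2 hm => by
    rw [hV, cS_pow_prime hodd, piP_comm, good_ind hW.1 hW.2 hs h2 hm]
  have hpm : p ∣ m := hq ▸ addOrderOf_dvd_of_nsmul_eq_zero (by simp)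
  have hsupp : ∀ y, p ∣ addOrderOf y → co V (r y) = 0 := by
    intro y hy
    rw [hV, co_pow_prime hodd]
    set F := Finset.univ.filter fun x : ZMod m => p • x = y with hF
    rcases (F.filter fun x => r x ∈ W).eq_empty_or_nonempty with h | ⟨x, hx⟩
    · rw [h]; simp
    · rw [Finset.mem_filter, hF, Finset.mem_filter] at hx
      have : (F.filter fun x => r x ∈ W) = F := by
        refine Finset.filter_eq_self.2 fun w hw => ?_
        rw [hF, Finset.mem_filter] at hw
        refine (ratSet_order hW.2 ?_).1 hx.2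
        have h0 : p • (w - x) = 0 := by rw [smul_sub, hw.2, hx.1.2, sub_self]
        have := addOrderOf_add_eq hpf.out (x := x) (by rw [hx.1.2]; exact hy) h0
        rw [add_sub_cancel] at this
        exact this.symm
      rw [this, hF, card_fiber hpf.out hq hx.1.2, ZMod.natCast_self]
  have hY := isInvariant_level' V fun a => a ≠ 0
  have hgood : piP p (cS (ind ℤ hY)) = cS (ind ℤ hY) := by
    refine piP_eq_of hpf.out (fun y hy => ?_) fun y hy => ?_
    · rw [cS_coeff, co_ind, if_neg fun h => h.2 (hsupp y hy)]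
    · have hord : addOrderOf (p • y) = addOrderOf y := by
        rw [(isOfFinAddOrder_of_finite y).addOrderOf_nsmul,
          Nat.Coprime.gcd_eq_one ((hpf.out.coprime_iff_not_dvd.2 hy).symm), Nat.div_one]
      have he : co V (r (p • y)) = co V (r y) :=
        eq_of_addOrderOf_eq (f := fun i => co V (r i)) hrat hord
      have h0 : p • y = 0 ↔ y = 0 := by
        rw [← AddMonoid.addOrderOf_eq_one_iff, hord, AddMonoid.addOrderOf_eq_one_iff]
      rw [cS_coeff, cS_coeff, co_ind, co_ind]
      simp only [Set.mem_setOf_eq, DihedralGroup.one_def, ne_eq, DihedralGroup.r.injEq, he, h0]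
  by_contra hne
  have h1 := subset_one_of_good hodd hpm hY hgood ⟨fun e => hz (by
    rw [DihedralGroup.one_def] at e; exact DihedralGroup.r.inj e), hne⟩
  rw [Set.mem_singleton_iff, DihedralGroup.one_def] at h1
  exact hz (DihedralGroup.r.inj h1)

theorem periodic_odd (hodd : p ≠ 2) {q : ZMod m} (hq : addOrderOf q = p) : Periodic G p q := by
  classical
  refine ⟨hpf.out, hq, fun W hW _ x hx => ?_⟩
  have h := pow_prime_supp hodd hq hW hx
  rw [co_pow_prime hodd, ZMod.natCast_eq_zero_iff] at h
  set F := Finset.univ.filter fun y : ZMod m => p • y = p • x with hF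
  have hcard : F.card = p := card_fiber hpf.out hq rfl
  have hxF : x ∈ F := Finset.mem_filter.2 ⟨Finset.mem_univ _, rfl⟩
  have hxqF : x + q ∈ F := Finset.mem_filter.2 ⟨Finset.mem_univ _, by
    rw [smul_add, ← hq, addOrderOf_nsmul_eq_zero, add_zero]⟩
  rcases (F.filter fun y => r y ∈ W).eq_empty_or_nonempty with h0 | hne
  · rw [Finset.filter_eq_empty_iff] at h0
    exact iff_of_false (h0 hxqF) (h0 hxF)
  · have hle := Nat.le_of_dvd hne.card_pos h
    have heq := Finset.eq_of_subset_of_card_le (Finset.filter_subset (fun y => r y ∈ W) F) (hcard.le.trans hle)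
    rw [Finset.filter_eq_self] at heq
    exact iff_of_true (heq _ hxqF) (heq _ hxF)

/-- `p` divides the signed size of an invariant set avoiding the subgroup of order `p`. -/
theorem dvd_epsS (hodd : p ≠ 2) {q : ZMod m} (hq : addOrderOf q = p)
    {W : Set (DihedralGroup m)} (hW : IsRI G W) (h1 : (1 : DihedralGroup m) ∉ W) (hqW : r q ∉ W) :
    (p : ℤ) ∣ epsS (ind ℤ hW.1) := by
  classical
  have h0 : ind (ZMod p) hW.1 ^ p = 0 := by
    refine eq_zero_of_cS_eq_zero ?_
    ext z
    rw [cS_coeff]
    rcases eq_or_ne z 0 with rfl | hz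
    · rw [co_pow_prime hodd, Finset.filter_eq_empty_iff.2 ?_]
      · simp
      · intro y hy
        have hy' := (Finset.mem_filter.1 hy).2
        rcases eq_or_ne y 0 with rfl | hy0
        · rwa [r_zero]
        · rwa [ratSet_order hW.2 (show addOrderOf y = addOrderOf q by
            rw [hq]; exact addOrderOf_eq_prime hy' hy0)]
    · rw [pow_prime_supp hodd hq hW hz]
      rfl
  have := congrArg epsS h0
  rw [map_pow, map_zero, pow_eq_zero_iff hpf.out.ne_zero,
    ← fmap_ind (Int.castRingHom (ZMod p)) hW.1, epsS_fmap] at this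
  exact (ZMod.intCast_zmod_eq_zero_iff_dvd _ _).1 this

end Odd

section Per

variable {p : ℕ} {q : ZMod m}

theorem Periodic.q_ne_zero (hP : Periodic G p q) : q ≠ 0 := by
  intro h
  have := hP.order
  rw [h, addOrderOf_zero] at this
  exact hP.prime.one_lt.ne this

theorem Periodic.rq_ne_one (hP : Periodic G p q) : (r q : DihedralGroup m) ≠ 1 := fun e =>
  hP.q_ne_zero (by rw [DihedralGroup.one_def] at e; exact DihedralGroup.r.inj e)

/-- The rotation part of a multiplier-invariant element is periodic up to a multiple of `1`. -/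
theorem cS_mul_diff (hP : Periodic G p q) {R : Type*} [CommRing R] {U : fixedAlg m G R}
    (hU : RatFun U) : cS U * diff q = (co U 1 - co U (r q)) • diff q := by
  classical
  set a := co U 1 - co U (r q) with ha
  suffices h : (cS U - a • 1) * diff q = 0 by
    rwa [sub_mul, smul_mul_assoc, one_mul, sub_eq_zero] at h
  rw [mul_diff_eq_zero_iff]
  have hval : ∀ x : ZMod m, p • x = 0 → (cS U - a • 1).coeff x = co U (r q) := by
    intro x hx
    rcases eq_or_ne x 0 with rfl | hx0
    · simp [cS_coeff, AddMonoidAlgebra.one_def, ha, r_zero]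
    · simp only [AddMonoidAlgebra.coeff_sub, Finsupp.sub_apply, AddMonoidAlgebra.coeff_smul,
        Finsupp.smul_apply, AddMonoidAlgebra.one_def, AddMonoidAlgebra.coeff_single,
        Finsupp.single_apply, if_neg (Ne.symm hx0), smul_zero, sub_zero, cS_coeff]
      refine eq_of_addOrderOf_eq (f := fun i => co U (r i)) hU ?_
      rw [hP.order]
      have := Fact.mk hP.prime
      exact addOrderOf_eq_prime hx hx0
  intro x
  have hpq : p • q = 0 := hP.order ▸ addOrderOf_nsmul_eq_zero q
  by_cases hx : p • x = 0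
  · rw [hval x hx, hval (x + q) (by rw [smul_add, hx, hpq, add_zero])]
  · have hx0 : x ≠ 0 := fun h => hx (by rw [h, smul_zero])
    have hxq : x + q ≠ 0 := fun h => hx (by
      have h' := congrArg (fun y => p • y) h
      simp only [smul_add, hpq, smul_zero, add_zero] at h'
      exact h')
    simp only [AddMonoidAlgebra.coeff_sub, Finsupp.sub_apply, AddMonoidAlgebra.coeff_smul,
      Finsupp.smul_apply, AddMonoidAlgebra.one_def, AddMonoidAlgebra.coeff_single,
      Finsupp.single_apply, if_neg (Ne.symm hx0), if_neg (Ne.symm hxq), smul_zero, sub_zero,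
      cS_coeff]
    have hne : ∀ y : ZMod m, y ≠ 0 → (r y : DihedralGroup m) ≠ 1 := fun y hy e => hy (by
      rw [DihedralGroup.one_def] at e; exact DihedralGroup.r.inj e)
    exact ((hP.per _ (isRI_level hU fun b => b = co U (r x)) (fun h => h.1 rfl) x hx).2
      ⟨hne x hx0, rfl⟩).2

end Per

end CfsgLib.DihedralB
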